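import Groth.Agent.Etdl.H860.Adj
import Groth.Agent.Etdl.H426.Assemble

/-!
# The generic adjunction theorem, in the case of étale sheaves
-/

set_option autoImplicit false
universe u

open CategoryTheory CategoryTheory.Limits AlgebraicGeometry Opposite

attribute [local instance] HasDerivedCategory.standard

namespace Groth.Agent.Etdl.H860.PD

open Groth.Agent.Etdl.H426.Assemble

/-- The generic theorem in the form used by the assembly of Poincaré duality. -/
theorem stmtAdj : StmtAdj.{u} := by
  intro X P S Λ _ j _ _ _ φ _ _ T _ _ _ N hN tr htr heff hL
  exact Adj.adjunction (FunInj.data (EtModW.Mod Λ P)) j φ N hN T tr htr heff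

end Groth.Agent.Etdl.H860.PD
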