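import Groth.Agent.Etdl.H860.Base

/-!
# The derived adjunction from a sheaf-level trace

`j : A ⥤ C` exact, `G : C ⥤ B` left exact with `R^iG(j M) = 0` for `i > N`, `T : B ⥤ A` exact,
`tr : T ⋙ j ⋙ R^NG ⟶ 𝟭`, such that `Hom(M, T J) = Hom(R^NG(j M), J)` for `J` injective and such that
`R^iG(j -)`, `i < N`, is effaceable. If `RG ∘ j` has a right adjoint on `D^+`, it is `T^+[N]`.
-/

set_option autoImplicit false
set_option linter.unusedSectionVars false

universe w w₁ w' v v₁ v' u u₁ u'

open CategoryTheory CategoryTheory.Limits Pretriangulated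

noncomputable section

namespace Groth.Agent.Etdl.H860.Adj

open FunInj Rho RDTri Eps WayOut Single HSg BijStep Base Groth.Agent.Etrest

variable {A : Type u₁} [Category.{v₁} A] [Abelian A] [HasDerivedCategory.{w₁} A] [EnoughInjectives A]
  {C : Type u} [Category.{v} C] [Abelian C] [HasDerivedCategory.{w} C] [EnoughInjectives C] (D : Data C)
  {B : Type u'} [Category.{v'} B] [Abelian B] [HasDerivedCategory.{w'} B] [EnoughInjectives B]
  (j : A ⥤ C) [j.Additive] [PreservesFiniteLimits j] [PreservesFiniteColimits j]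
  (G : C ⥤ B) [G.Additive] [PreservesFiniteLimits G] (N : ℕ)
  (hN : ∀ (M : A) (i : ℕ), N < i → IsZero ((G.rightDerived i).obj (j.obj M)))
  (T : B ⥤ A) [T.Additive] [PreservesFiniteLimits T] [PreservesFiniteColimits T]
  (tr : T ⋙ j ⋙ G.rightDerived N ⟶ 𝟭 B)

/-- A morphism to `J[m]`, `J` injective, is zero if it is zero on `H^{-m}`. -/
theorem eq_zero_of_homology {K : DerivedCategory.Plus B} (m : ℤ) (J : B) [Injective J] (w : K ⟶ sg m J)
    (hw : (DerivedCategory.Plus.homologyFunctor B (-m)).map w = 0) : w = 0 := by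
  let e := sgIso m (-m) (by lia) J
  have h1 : w ≫ e.hom = 0 := by
    apply (Detect.bijective_homology K J (-m)).1
    change (DerivedCategory.Plus.homologyFunctor B (-m)).map (w ≫ e.hom) =
      (DerivedCategory.Plus.homologyFunctor B (-m)).map (0 : K ⟶ _)
    rw [Functor.map_comp, hw, zero_comp, Functor.map_zero]
  exact (Preadditive.IsIso.comp_right_eq_zero w e.hom).1 h1

theorem isGE_T (K : DerivedCategory.Plus B) (n : ℤ) [K.IsGE n] : ((HF N T).obj K).IsGE (n - N) := by
  have h := Etdl.H441.InjAmp.isGE_rightDerivedFunctorPlus_obj T K n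
  exact DerivedCategory.Plus.TStructure.t.isGE_shift (T.rightDerivedFunctorPlus.obj K) n N (n - N) (by lia)

theorem isLE_T (K : DerivedCategory.Plus B) (n : ℤ) [hK : K.IsLE n] : ((HF N T).obj K).IsLE (n - N) := by
  have h := Etdl.H423.Amp.isLE_rightDerivedFunctorPlus T 0 (fun X i hi => by
    obtain ⟨n, rfl⟩ : ∃ n, i = n + 1 := ⟨i - 1, by lia⟩
    exact Groth.Agent.Sga4h.FunLES.isZero_rightDerived_of_exact _ _ n) K n hK
  have h' : (T.rightDerivedFunctorPlus.obj K).IsLE n := by simpa using h
  exact DerivedCategory.Plus.TStructure.t.isLE_shift (T.rightDerivedFunctorPlus.obj K) n N (n - N) (by lia)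

/-- The kernel sequence of an epimorphism. -/
theorem shortExact_kernel {P M : A} (p : P ⟶ M) [Epi p] :
    (ShortComplex.mk (kernel.ι p) p (kernel.condition p)).ShortExact :=
  { exact := ShortComplex.exact_of_f_is_kernel _ (kernelIsKernel p)
    mono_f := inferInstanceAs (Mono (kernel.ι p))
    epi_g := inferInstanceAs (Epi p) }

section Step

variable {A' : Type u₁} [Category.{v₁} A'] [Preadditive A'] {X Y : A'}

theorem comp_zsmul_eq_zero {X Y Z : A'} (n : ℤˣ) (f : X ⟶ Y) (g : Y ⟶ Z) (h : f ≫ g = 0) :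
    (n • f) ≫ g = 0 := by
  rw [Linear.units_smul_comp, h, smul_zero]

end Step

variable (htr : ∀ (J : B) [Injective J] (M : A),
      Function.Bijective (fun g : M ⟶ T.obj J => (G.rightDerived N).map (j.map g) ≫ tr.app J))
  (heff : ∀ i : ℕ, i < N → ∀ M : A, ∃ (M' : A) (p : M' ⟶ M), Epi p ∧ (G.rightDerived i).map (j.map p) = 0)

include htr in
theorem bijective_zero (m k : ℤ) (h : m + N = k) (M : A) (J : B) [Injective J] :
    Function.Bijective (ph (eps D j G N hN T tr) (sg k M) (sg m J)) := by
  have h1 := bijective_base D j G N hN T tr (-m) M J htr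
  let e1 : (DerivedCategory.Plus.Q.obj ((cs (-m)).obj M))⟦(N : ℤ)⟧ ≅ sg k M :=
    (shiftFunctor (DerivedCategory.Plus A) (N : ℤ)).mapIso (sgIso m (-m) (by lia) M).symm ≪≫
      sgShift m N k h M
  let e2 : DerivedCategory.Plus.Q.obj ((cs (-m)).obj J) ≅ sg m J := (sgIso m (-m) (by lia) J).symm
  exact bijective_of_iso_left _ e1 _ (bijective_of_iso_right _ _ e2 h1)

include heff in
/-- Effaceability of maps `Rf_!(M[k]) ⟶ J[m]`, `k - m < N`. -/
theorem exists_epi_F (m k : ℤ) (h : k < m + N) (M : A) (J : B) [Injective J]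
    (x : (RF j G).obj (sg k M) ⟶ sg m J) :
    ∃ (P : A) (p : P ⟶ M), Epi p ∧
      (RF j G).map (((DerivedCategory.Plus.singleFunctor A 0).map p)⟦k⟧') ≫ x = 0 := by
  by_cases hk : m ≤ k
  · obtain ⟨i, hi⟩ : ∃ i : ℕ, k + -m = i := ⟨(k - m).toNat, by lia⟩
    obtain ⟨P, p, hp, h0⟩ := heff i (by lia) M
    refine ⟨P, p, hp, eq_zero_of_homology m J _ ?_⟩
    rw [Functor.map_comp, homology_map_eq_zero j G p i h0 k (-m) hi, zero_comp]
  · refine ⟨M, 𝟙 M, inferInstance, eq_zero_of_homology m J _ ?_⟩
    have h1 : ((RF j G).obj (sg k M)).IsGE (-k) := isGE_RF j G (sg k M) (-k)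
    have h2 := DerivedCategory.Plus.isZero_homology_of_isGE ((RF j G).obj (sg k M)) (-k) (-m) (by lia)
    exact h2.eq_of_src _ _

include htr heff in
theorem bijective_nat (m : ℤ) (J : B) [Injective J] (a : ℕ) : ∀ (k : ℤ) (_ : k + a = m + N) (M : A),
    Function.Bijective (ph (eps D j G N hN T tr) (sg k M) (sg m J)) := by
  induction a with
  | zero =>
    intro k h M
    exact bijective_zero D j G N hN T tr htr m k (by push_cast at h; lia) M J
  | succ a ih =>
    intro k h M
    have hlt : k < m + N := by push_cast at h; lia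
    have ih' : ∀ M : A, Function.Bijective (ph (eps D j G N hN T tr) ((sg k M)⟦(1 : ℤ)⟧) (sg m J)) := fun M =>
      bijective_of_iso_left _ (sgShift k 1 (k + 1) rfl M).symm _ (ih (k + 1) (by push_cast at h; lia) M)
    constructor
    · intro x y hxy
      rw [← sub_eq_zero]
      have h0 : ph (eps D j G N hN T tr) (sg k M) (sg m J) (x - y) = 0 := by
        have : ph (eps D j G N hN T tr) (sg k M) (sg m J) (x - y) =
          ph (eps D j G N hN T tr) (sg k M) (sg m J) x - ph (eps D j G N hN T tr) (sg k M) (sg m J) y := by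
          simp only [ph, Functor.map_sub, Preadditive.sub_comp]
        rw [this, hxy, sub_self]
      have hLE : ((HF N T).obj (sg m J)).IsLE (-m - N) := isLE_T N T (sg m J) (-m)
      obtain ⟨P, p, hp, hpx⟩ := Detect.exists_epi ((HF N T).obj (sg m J)) (-m - N) k hLE (by lia) M (x - y)
      refine step_inj (eps D j G N hN T tr) (sgTri k (shortExact_kernel p)) (sgTri_distinguished k _) (sg m J)
        (x - y) ?_ h0 (ih' (kernel p)).1 (ih' P).2
      exact comp_zsmul_eq_zero _ _ _ hpx
    · intro w
      obtain ⟨P, p, hp, hpx⟩ := exists_epi_F j G N heff m k hlt M J w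
      refine step_surj (eps D j G N hN T tr) (sgTri k (shortExact_kernel p)) (sgTri_distinguished k _) (sg m J)
        w ?_ (ih' (kernel p)).2
      have h1 : (RF j G).map (sgTri k (shortExact_kernel p)).mor₂ =
          k.negOnePow • (RF j G).map (((DerivedCategory.Plus.singleFunctor A 0).map p)⟦k⟧') :=
        Functor.map_units_smul _ _ _
      rw [h1]
      exact comp_zsmul_eq_zero _ _ _ hpx

include htr heff in
/-- Bijectivity for all single objects and all shifted injectives. -/
theorem bijective_sg (m k : ℤ) (M : A) (J : B) [Injective J] :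
    Function.Bijective (ph (eps D j G N hN T tr) (sg k M) (sg m J)) := by
  by_cases h : k ≤ m + N
  · exact bijective_nat D j G N hN T tr htr heff m J (m + N - k).toNat k (by lia) M
  · have h1 : ((HF N T).obj (sg m J)).IsGE (-m - N) := isGE_T N T (sg m J) (-m)
    have h2 : ((RF j G).obj (sg k M)).IsLE (-k + N) := isLE_RF j G N hN (sg k M) (-k) inferInstance
    have h3 : ∀ f : sg k M ⟶ (HF N T).obj (sg m J), f = 0 := fun f =>
      DerivedCategory.Plus.TStructure.t.zero f (-k) (-m - N) (by lia)
    have h4 : ∀ f : (RF j G).obj (sg k M) ⟶ sg m J, f = 0 := fun f =>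
      DerivedCategory.Plus.TStructure.t.zero f (-k + N) (-m) (by lia)
    exact ⟨fun x y _ => (h3 x).trans (h3 y).symm, fun w => ⟨0, (h4 _).trans (h4 w).symm⟩⟩

/-- `H^p` of `T^+ K[N]`. -/
def hT (p : ℤ) : HF N T ⋙ DerivedCategory.Plus.homologyFunctor A p ≅
    T.rightDerivedFunctorPlus ⋙ DerivedCategory.Plus.homologyFunctor A (N + p) :=
  (Functor.isoWhiskerLeft T.rightDerivedFunctorPlus (hShift (B := A) N p (N + p) rfl) :)

theorem isHomological_T (p : ℤ) : (HF N T ⋙ DerivedCategory.Plus.homologyFunctor A p).IsHomological :=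
  Functor.IsHomological.of_iso (hT N T p).symm

include D hN tr htr heff in
/-- The derived adjunction from a sheaf-level trace. -/
theorem adjunction [(RF j G).IsLeftAdjoint] : Nonempty (RF j G ⊣ HF N T) := by
  let R := (RF j G).rightAdjoint
  let adj : RF j G ⊣ R := Adjunction.ofIsLeftAdjoint (RF j G)
  let : R.CommShift ℤ := adj.rightAdjointCommShift ℤ
  have : adj.CommShift ℤ := adj.commShift_of_leftAdjoint ℤ
  have : R.IsTriangulated := adj.isTriangulated_rightAdjoint
  let τ := θ (eps D j G N hN T tr) adj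
  have hJ : ∀ (J : B), Injective J → ∀ m : ℤ, IsIso (τ.app (sg m J)) := by
    intro J _ m
    refine Detect.isIso_of_bijective _ fun k M => ?_
    rw [bijective_comp_θ_iff]
    exact bijective_sg D j G N hN T tr htr heff m k M J
  have hτ : ∀ K : DerivedCategory.Plus B, IsIso (τ.app K) := by
    intro K
    rw [DerivedCategory.Plus.isIso_iff]
    intro p
    have h1 := isHomological_T N T p
    have h2 : (R ⋙ DerivedCategory.Plus.homologyFunctor A p).IsHomological := inferInstance
    refine WayOut.isIso_app (𝓗 := HF N T ⋙ DerivedCategory.Plus.homologyFunctor A p)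
      (𝓗' := R ⋙ DerivedCategory.Plus.homologyFunctor A p)
      (Functor.whiskerRight τ (DerivedCategory.Plus.homologyFunctor A p)) (p + N + 1) ?_ ?_ K
    · intro K hK
      have h3 : ((HF N T).obj K).IsGE (p + 1) := by
        have := isGE_T N T K (p + N + 1)
        exact DerivedCategory.Plus.TStructure.t.isGE_of_ge _ (p + 1) (p + N + 1 - N) (by lia)
      have h4 : (R.obj K).IsGE (p + 1) := by
        have := Etdl.H423.Amp.isGE_of_adj DerivedCategory.Plus.TStructure.t
          DerivedCategory.Plus.TStructure.t adj N (isLE_RF j G N hN) K (p + N + 1) hK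
        exact DerivedCategory.Plus.TStructure.t.isGE_of_ge _ (p + 1) (p + N + 1 - N) (by lia)
      have h5 := DerivedCategory.Plus.isZero_homology_of_isGE ((HF N T).obj K) (p + 1) p (by lia)
      have h6 := DerivedCategory.Plus.isZero_homology_of_isGE (R.obj K) (p + 1) p (by lia)
      exact ⟨0, h5.eq_of_src _ _, h6.eq_of_src _ _⟩
    · intro J hJ' k
      have := hJ J hJ' k
      exact inferInstanceAs (IsIso ((DerivedCategory.Plus.homologyFunctor A p).map (τ.app (sg k J))))
  have : IsIso τ := (NatTrans.isIso_iff_isIso_app τ).2 hτ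
  exact ⟨adj.ofNatIsoRight (asIso τ).symm⟩

end Groth.Agent.Etdl.H860.Adj

end
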