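import Mathlib.CategoryTheory.Triangulated.Functor
import Mathlib.CategoryTheory.Triangulated.Pretriangulated

/-!
# Bijectivity of `Hom(E, H K) ⟶ Hom(F E, K)` and triangles
-/

set_option autoImplicit false

universe v v' u u'

open CategoryTheory CategoryTheory.Limits Pretriangulated

namespace Groth.Agent.Etdl.H860.BijStep

section Basic

variable {X : Type u} [Category.{v} X] {Y : Type u'} [Category.{v'} Y] {F : X ⥤ Y} {H : Y ⥤ X}
  (ε : H ⋙ F ⟶ 𝟭 Y)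

/-- The map `Hom(E, H K) ⟶ Hom(F E, K)` given by a counit-like transformation. -/
def ph (E : X) (K : Y) (f : E ⟶ H.obj K) : F.obj E ⟶ K := F.map f ≫ ε.app K

theorem ph_comp {E E' : X} (a : E' ⟶ E) (K : Y) (f : E ⟶ H.obj K) :
    ph ε E' K (a ≫ f) = F.map a ≫ ph ε E K f := by
  simp [ph]

theorem ph_comp_right (E : X) {K K' : Y} (f : E ⟶ H.obj K) (b : K ⟶ K') :
    ph ε E K' (f ≫ H.map b) = ph ε E K f ≫ b := by
  have h := ε.naturality b
  dsimp [ph] at h ⊢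
  rw [F.map_comp, Category.assoc, h, Category.assoc]

theorem bijective_of_iso_left {E E' : X} (e : E ≅ E') (K : Y) (h : Function.Bijective (ph ε E K)) :
    Function.Bijective (ph ε E' K) := by
  have h1 : ph ε E' K = (fun w : F.obj E ⟶ K => F.map e.inv ≫ w) ∘ ph ε E K ∘ (fun f => e.hom ≫ f) := by
    funext f
    simp only [Function.comp_apply]
    rw [← ph_comp, e.inv_hom_id_assoc]
  rw [h1]
  refine Function.Bijective.comp ⟨fun a b hab => ?_, fun b => ⟨F.map e.hom ≫ b, ?_⟩⟩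
    (h.comp ⟨fun a b hab => ?_, fun b => ⟨e.inv ≫ b, ?_⟩⟩)
  · exact (cancel_epi (F.map e.inv)).1 hab
  · change F.map e.inv ≫ F.map e.hom ≫ b = b
    rw [← Category.assoc, ← F.map_comp, e.inv_hom_id, F.map_id, Category.id_comp]
  · exact (cancel_epi e.hom).1 hab
  · exact e.hom_inv_id_assoc b

theorem bijective_of_iso_right (E : X) {K K' : Y} (e : K ≅ K') (h : Function.Bijective (ph ε E K)) :
    Function.Bijective (ph ε E K') := by
  have h1 : ph ε E K' = (fun w : F.obj E ⟶ K => w ≫ e.hom) ∘ ph ε E K ∘ (fun f => f ≫ H.map e.inv) := by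
    funext f
    simp only [Function.comp_apply]
    rw [← ph_comp_right, Category.assoc, ← H.map_comp, e.inv_hom_id, H.map_id, Category.comp_id]
  rw [h1]
  refine Function.Bijective.comp ⟨fun a b hab => ?_, fun b => ⟨b ≫ e.inv, ?_⟩⟩
    (h.comp ⟨fun a b hab => ?_, fun b => ⟨b ≫ H.map e.hom, ?_⟩⟩)
  · exact (cancel_mono e.hom).1 hab
  · change (b ≫ e.inv) ≫ e.hom = b
    rw [Category.assoc, e.inv_hom_id, Category.comp_id]
  · exact (cancel_mono (H.map e.inv)).1 hab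
  · change (b ≫ H.map e.hom) ≫ H.map e.inv = b
    rw [Category.assoc, ← H.map_comp, e.hom_inv_id, H.map_id, Category.comp_id]

end Basic

section Tri

variable {X : Type u} [Category.{v} X] [HasZeroObject X] [HasShift X ℤ] [Preadditive X]
  [∀ n : ℤ, (shiftFunctor X n).Additive] [Pretriangulated X]
  {Y : Type u'} [Category.{v'} Y] [HasZeroObject Y] [HasShift Y ℤ] [Preadditive Y]
  [∀ n : ℤ, (shiftFunctor Y n).Additive] [Pretriangulated Y]
  {F : X ⥤ Y} [F.CommShift ℤ] [F.IsTriangulated] {H : Y ⥤ X} (ε : H ⋙ F ⟶ 𝟭 Y)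

omit [HasZeroObject X] [HasShift X ℤ] [∀ n : ℤ, (shiftFunctor X n).Additive] [Pretriangulated X]
  [HasZeroObject Y] [HasShift Y ℤ] [∀ n : ℤ, (shiftFunctor Y n).Additive] [Pretriangulated Y]
  [F.CommShift ℤ] [F.IsTriangulated] in
theorem ph_zero [F.PreservesZeroMorphisms] (E : X) (K : Y) : ph ε E K 0 = 0 := by
  simp [ph]

/-- Exactness of `Hom(F -, K)` for a triangulated functor `F`. -/
theorem exists_of_mor₁ (Δ : Triangle X) (hΔ : Δ ∈ distTriang X) {K : Y} (w : F.obj Δ.obj₂ ⟶ K)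
    (hw : F.map Δ.mor₁ ≫ w = 0) : ∃ v : F.obj Δ.obj₃ ⟶ K, w = F.map Δ.mor₂ ≫ v :=
  Triangle.yoneda_exact₂ _ (F.map_distinguished Δ hΔ) w hw

theorem step_inj (Δ : Triangle X) (hΔ : Δ ∈ distTriang X) (K : Y) (x : Δ.obj₃ ⟶ H.obj K)
    (hx : Δ.mor₂ ≫ x = 0) (hx' : ph ε Δ.obj₃ K x = 0)
    (h1 : Function.Injective (ph ε (Δ.obj₁⟦(1 : ℤ)⟧) K))
    (h2 : Function.Surjective (ph ε (Δ.obj₂⟦(1 : ℤ)⟧) K)) : x = 0 := by
  obtain ⟨y, hy⟩ := Triangle.yoneda_exact₃ Δ hΔ x hx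
  have h3 : F.map Δ.mor₃ ≫ ph ε (Δ.obj₁⟦(1 : ℤ)⟧) K y = 0 := by
    rw [← ph_comp, ← hy, hx']
  obtain ⟨z', hz'⟩ := exists_of_mor₁ Δ.rotate.rotate
    (rot_of_distTriang _ (rot_of_distTriang _ hΔ)) (ph ε (Δ.obj₁⟦(1 : ℤ)⟧) K y) h3
  obtain ⟨z, hz⟩ := h2 z'
  have h4 : y = Δ.rotate.rotate.mor₂ ≫ z := by
    apply h1
    refine hz'.trans ?_
    rw [← hz]
    exact (ph_comp ε Δ.rotate.rotate.mor₂ K z).symm
  have h5 : Δ.rotate.rotate.mor₁ ≫ Δ.rotate.rotate.mor₂ = 0 :=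
    comp_distTriang_mor_zero₁₂ _ (rot_of_distTriang _ (rot_of_distTriang _ hΔ))
  have h6 : Δ.rotate.rotate.mor₁ ≫ Δ.rotate.rotate.mor₂ ≫ (z : Δ.rotate.rotate.obj₃ ⟶ H.obj K) = 0 := by
    rw [← Category.assoc, h5, zero_comp]
  rw [hy, h4]
  exact h6

theorem step_surj (Δ : Triangle X) (hΔ : Δ ∈ distTriang X) (K : Y) (w : F.obj Δ.obj₃ ⟶ K)
    (hw : F.map Δ.mor₂ ≫ w = 0) (h1 : Function.Surjective (ph ε (Δ.obj₁⟦(1 : ℤ)⟧) K)) :
    ∃ x, ph ε Δ.obj₃ K x = w := by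
  obtain ⟨v, hv⟩ := exists_of_mor₁ Δ.rotate (rot_of_distTriang _ hΔ) w hw
  obtain ⟨y, hy⟩ := h1 v
  refine ⟨Δ.mor₃ ≫ y, ?_⟩
  rw [hv, ← hy]
  exact ph_comp ε Δ.mor₃ K y

end Tri

section Adj

variable {X : Type u} [Category.{v} X] {Y : Type u'} [Category.{v'} Y] {F : X ⥤ Y} {H G : Y ⥤ X}
  (ε : H ⋙ F ⟶ 𝟭 Y) (adj : F ⊣ G)

/-- The comparison of `H` with the right adjoint. -/
def θ : H ⟶ G where
  app K := adj.homEquiv (H.obj K) K (ε.app K)
  naturality K K' b := by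
    have h := ε.naturality b
    dsimp at h
    rw [← adj.homEquiv_naturality_left, ← adj.homEquiv_naturality_right, h]

theorem comp_θ (E : X) (K : Y) (f : E ⟶ H.obj K) :
    f ≫ (θ ε adj).app K = adj.homEquiv E K (ph ε E K f) := by
  change f ≫ adj.homEquiv (H.obj K) K (ε.app K) = _
  rw [← adj.homEquiv_naturality_left]
  rfl

theorem bijective_comp_θ_iff (E : X) (K : Y) :
    Function.Bijective (fun f : E ⟶ H.obj K => f ≫ (θ ε adj).app K) ↔ Function.Bijective (ph ε E K) := by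
  have h : (fun f : E ⟶ H.obj K => f ≫ (θ ε adj).app K) = adj.homEquiv E K ∘ ph ε E K :=
    funext fun f => comp_θ ε adj E K f
  rw [h, Equiv.comp_bijective]

end Adj

end Groth.Agent.Etdl.H860.BijStep
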