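import Groth.Agent.Etdl.H860.HSg
import Groth.Agent.Etdl.H860.BijStep

/-!
# The base case: injective sheaves in one degree
-/

set_option autoImplicit false
set_option linter.unusedSectionVars false

universe w w₁ w' v v₁ v' u u₁ u'

open CategoryTheory CategoryTheory.Limits

noncomputable section

namespace Groth.Agent.Etdl.H860.Base

open FunInj Rho RDTri Eps WayOut Single HSg BijStep Groth.Agent.Etrest

section Gen

variable {B : Type u'} [Category.{v'} B] [Abelian B]

theorem bijective_plus_f {E L : CochainComplex.Plus B} (n : ℤ) (hE : ∀ i, i ≠ n → IsZero (E.obj.X i))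
    (hL : ∀ i, i ≠ n → IsZero (L.obj.X i)) : Function.Bijective (fun g : E ⟶ L => g.hom.f n) :=
  (bijective_f n hE hL).comp ((CochainComplex.Plus.fullyFaithfulι B).map_bijective E L)

variable [HasDerivedCategory.{w'} B]

theorem bijective_homology_Q {E L : CochainComplex.Plus B} (n : ℤ) (hE : ∀ i, i ≠ n → IsZero (E.obj.X i))
    (hL : ∀ i, i ≠ n → IsZero (L.obj.X i)) : Function.Bijective (fun g : E ⟶ L =>
      (DerivedCategory.Plus.homologyFunctor B n).map (DerivedCategory.Plus.Q.map g)) := by
  have h1 : Function.Bijective (fun g : E ⟶ L => HomologicalComplex.homologyMap g.hom n) :=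
    (bijective_homologyMap n hE hL).comp ((CochainComplex.Plus.fullyFaithfulι B).map_bijective E L)
  let e : DerivedCategory.Q ⋙ DerivedCategory.homologyFunctor B n ≅
    HomologicalComplex.homologyFunctor B (.up ℤ) n := DerivedCategory.homologyFunctorFactors B n
  have h2 : (fun g : E ⟶ L =>
      (DerivedCategory.Plus.homologyFunctor B n).map (DerivedCategory.Plus.Q.map g)) =
      (fun t => e.hom.app E.obj ≫ t ≫ e.inv.app L.obj) ∘ (fun g : E ⟶ L => HomologicalComplex.homologyMap g.hom n) := by
    funext g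
    have h3 := e.hom.naturality g.hom
    change (DerivedCategory.Q ⋙ DerivedCategory.homologyFunctor B n).map g.hom =
      e.hom.app E.obj ≫ (HomologicalComplex.homologyFunctor B (.up ℤ) n).map g.hom ≫ e.inv.app L.obj
    rw [← Category.assoc, ← h3, Category.assoc, Iso.hom_inv_id_app, Category.comp_id]
  rw [h2]
  refine Function.Bijective.comp ⟨fun a b hab => ?_, fun b => ⟨e.inv.app E.obj ≫ b ≫ e.hom.app L.obj, ?_⟩⟩ h1
  · have hab' : e.hom.app E.obj ≫ a ≫ e.inv.app L.obj = e.hom.app E.obj ≫ b ≫ e.inv.app L.obj := hab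
    rw [cancel_epi, cancel_mono] at hab'
    exact hab'
  · change e.hom.app E.obj ≫ (e.inv.app E.obj ≫ b ≫ e.hom.app L.obj) ≫ e.inv.app L.obj = b
    rw [Category.assoc, Category.assoc, e.hom_inv_id_app_assoc]
    exact (congrArg (b ≫ ·) (e.hom_inv_id_app L.obj)).trans (Category.comp_id b)

end Gen

variable {A : Type u₁} [Category.{v₁} A] [Abelian A] [HasDerivedCategory.{w₁} A] [EnoughInjectives A]
  {C : Type u} [Category.{v} C] [Abelian C] [HasDerivedCategory.{w} C] [EnoughInjectives C] (D : Data C)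
  {B : Type u'} [Category.{v'} B] [Abelian B] [HasDerivedCategory.{w'} B] [EnoughInjectives B]
  (j : A ⥤ C) [j.Additive] [PreservesFiniteLimits j] [PreservesFiniteColimits j]
  (G : C ⥤ B) [G.Additive] [PreservesFiniteLimits G] (N : ℕ)
  (hN : ∀ (M : A) (i : ℕ), N < i → IsZero ((G.rightDerived i).obj (j.obj M)))
  (T : B ⥤ A) [T.Additive] [PreservesFiniteLimits T] [PreservesFiniteColimits T]
  (tr : T ⋙ j ⋙ G.rightDerived N ⟶ 𝟭 B)

/-- The morphisms `E ⟶ T L` of complexes as morphisms `E[N] ⟶ T^+ L [N]`. -/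
def al (E : CochainComplex.Plus A) (L : CochainComplex.Plus B) (g : E ⟶ T.mapCochainComplexPlus.obj L) :
    (DerivedCategory.Plus.Q.obj E)⟦(N : ℤ)⟧ ⟶ (HF N T).obj (DerivedCategory.Plus.Q.obj L) :=
  (DerivedCategory.Plus.Q.map g)⟦(N : ℤ)⟧' ≫ ((exactIso T).inv.app L)⟦(N : ℤ)⟧'

theorem al_surjective (n : ℤ) (M : A) (L : CochainComplex.Plus B) (hL : ∀ i, i ≠ n → IsZero (L.obj.X i)) :
    Function.Surjective (al N T ((cs n).obj M) L) := by
  intro f
  obtain ⟨f', hf'⟩ := (shiftFunctor (DerivedCategory.Plus A) (N : ℤ)).map_surjective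
    (X := DerivedCategory.Plus.Q.obj ((cs n).obj M)) (Y := T.rightDerivedFunctorPlus.obj (DerivedCategory.Plus.Q.obj L)) f
  obtain ⟨g, hg⟩ := Q_map_surjective n M (T.mapCochainComplexPlus.obj L)
    (fun i hi => T.map_isZero (hL i hi)) (f' ≫ (exactIso T).hom.app L)
  refine ⟨g, ?_⟩
  have hg' : DerivedCategory.Plus.Q.map g = f' ≫ (exactIso T).hom.app L := hg
  rw [al, hg', ← hf', ← Functor.map_comp, Category.assoc, Iso.hom_inv_id_app]
  exact congrArg (shiftFunctor (DerivedCategory.Plus A) (N : ℤ)).map (Category.comp_id f')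

theorem bijective_base (n : ℤ) (M : A) (J : B) [Injective J]
    (htr : ∀ (J : B) [Injective J] (M : A),
      Function.Bijective (fun g : M ⟶ T.obj J => (G.rightDerived N).map (j.map g) ≫ tr.app J)) :
    Function.Bijective (ph (eps D j G N hN T tr) ((DerivedCategory.Plus.Q.obj ((cs n).obj M))⟦(N : ℤ)⟧)
      (DerivedCategory.Plus.Q.obj ((cs n).obj J))) := by
  have hα := al_surjective N T n M ((cs n).obj J) (isZero_cs n J)
  suffices hβ : Function.Bijective (ph (eps D j G N hN T tr) ((DerivedCategory.Plus.Q.obj ((cs n).obj M))⟦(N : ℤ)⟧)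
      (DerivedCategory.Plus.Q.obj ((cs n).obj J)) ∘ al N T ((cs n).obj M) ((cs n).obj J)) by
    have hα' : Function.Bijective (al N T ((cs n).obj M) ((cs n).obj J)) :=
      ⟨Function.Injective.of_comp hβ.1, hα⟩
    exact (Function.Bijective.of_comp_iff _ hα').1 hβ
  let h : ((cs n).obj M ⟶ T.mapCochainComplexPlus.obj ((cs n).obj J)) →
    ((j.mapCochainComplexPlus ⋙ (G.rightDerived N).mapCochainComplexPlus).obj ((cs n).obj M) ⟶ (cs n).obj J) :=
    fun g => (j.mapCochainComplexPlus ⋙ (G.rightDerived N).mapCochainComplexPlus).map g ≫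
      (trC j G N T tr).app ((cs n).obj J)
  have b1 : Function.Bijective (fun g : (cs n).obj M ⟶ T.mapCochainComplexPlus.obj ((cs n).obj J) => g.hom.f n) :=
    bijective_plus_f n (isZero_cs n M) (fun i hi => T.map_isZero (isZero_cs n J i hi))
  have b2 : Function.Bijective (fun v : (j.mapCochainComplexPlus ⋙
      (G.rightDerived N).mapCochainComplexPlus).obj ((cs n).obj M) ⟶ (cs n).obj J => v.hom.f n) :=
    bijective_plus_f n (fun i hi => (G.rightDerived N).map_isZero (j.map_isZero (isZero_cs n M i hi))) (isZero_cs n J)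
  have hJ : Injective (((cs n).obj J).obj.X n) :=
    Injective.of_iso (HomologicalComplex.singleObjXSelf (.up ℤ) n J).symm inferInstance
  have b3 : Function.Bijective ((fun v : (j.mapCochainComplexPlus ⋙
      (G.rightDerived N).mapCochainComplexPlus).obj ((cs n).obj M) ⟶ (cs n).obj J => v.hom.f n) ∘ h) :=
    (htr (((cs n).obj J).obj.X n) (((cs n).obj M).obj.X n)).comp b1
  have b4 : Function.Bijective h := (Function.Bijective.of_comp_iff' b2 h).1 b3
  have hρ := isIso_homology_ρ D j G N hN ((cs n).obj M) n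
  have b5 : Function.Bijective (fun v : (j.mapCochainComplexPlus ⋙
      (G.rightDerived N).mapCochainComplexPlus).obj ((cs n).obj M) ⟶ (cs n).obj J =>
        (ρ D j G N hN).app ((cs n).obj M) ≫ DerivedCategory.Plus.Q.map v) := by
    have b6 := Detect.bijective_homology ((RF j G).obj ((DerivedCategory.Plus.Q.obj ((cs n).obj M))⟦(N : ℤ)⟧)) J n
    refine (Function.Bijective.of_comp_iff' b6 _).1 ?_
    have b7 := bijective_homology_Q n (E := (j.mapCochainComplexPlus ⋙
      (G.rightDerived N).mapCochainComplexPlus).obj ((cs n).obj M)) (L := (cs n).obj J)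
      (fun i hi => (G.rightDerived N).map_isZero (j.map_isZero (isZero_cs n M i hi))) (isZero_cs n J)
    have b8 : Function.Bijective (fun t : (DerivedCategory.Plus.homologyFunctor B n).obj
        (DerivedCategory.Plus.Q.obj ((j.mapCochainComplexPlus ⋙
      (G.rightDerived N).mapCochainComplexPlus).obj ((cs n).obj M))) ⟶
        (DerivedCategory.Plus.homologyFunctor B n).obj (DerivedCategory.Plus.Q.obj ((cs n).obj J)) =>
        (DerivedCategory.Plus.homologyFunctor B n).map ((ρ D j G N hN).app ((cs n).obj M)) ≫ t) :=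
      ⟨fun a b hab => (cancel_epi ((DerivedCategory.Plus.homologyFunctor B n).map
        ((ρ D j G N hN).app ((cs n).obj M)))).1 hab,
       fun b => ⟨inv ((DerivedCategory.Plus.homologyFunctor B n).map
        ((ρ D j G N hN).app ((cs n).obj M))) ≫ b, IsIso.hom_inv_id_assoc _ _⟩⟩
    have b9 := b8.comp b7
    refine (Eq.mpr (congrArg Function.Bijective (funext fun v => ?_)) b9)
    exact Functor.map_comp _ _ _
  have b10 : (ph (eps D j G N hN T tr) ((DerivedCategory.Plus.Q.obj ((cs n).obj M))⟦(N : ℤ)⟧)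
      (DerivedCategory.Plus.Q.obj ((cs n).obj J)) ∘ al N T ((cs n).obj M) ((cs n).obj J)) =
      (fun v : (j.mapCochainComplexPlus ⋙
      (G.rightDerived N).mapCochainComplexPlus).obj ((cs n).obj M) ⟶ (cs n).obj J =>
        (ρ D j G N hN).app ((cs n).obj M) ≫ DerivedCategory.Plus.Q.map v) ∘ h :=
    funext fun g => map_comp_eps D j G N hN T tr ((cs n).obj M) ((cs n).obj J) g
  rw [b10]
  exact b5.comp b4

end Groth.Agent.Etdl.H860.Base

end
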