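import Groth.Agent.Etdl.H860.ZFun
import Groth.Agent.Etrest.RDer2

/-!
# Dimension shifting on complexes

For an additive functor `G : C ⥤ B`: natural chain maps `R^nG(Z K) ⟶ R^{n+1}G(K)`, hence
`R^0G(Z^n K) ⟶ R^nG(K)`; it is an isomorphism on `H^p` if `K` is concentrated in degrees `≤ p`.
-/

set_option autoImplicit false

universe w v v' u u'

open CategoryTheory CategoryTheory.Limits

noncomputable section

namespace Groth.Agent.Etdl.H860.Delta

open FunInj ZFun Groth.Agent.Etrest

section Homology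

variable {B : Type u'} [Category.{v'} B] [Abelian B]

/-- A criterion for a chain map to be an isomorphism on the top homology. -/
theorem isIso_homologyMap_top {K L : CochainComplex B ℤ} (f : K ⟶ L) (p q : ℤ) (hq : q + 1 = p)
    (hK : K.d p (p + 1) = 0) (hL : L.d p (p + 1) = 0) (hf : Epi (f.f q)) (hf' : Epi (f.f p))
    {A₀ : B} (a : A₀ ⟶ K.X p) (w : a ≫ f.f p = 0) (he : (ShortComplex.mk a (f.f p) w).Exact)
    (ha : a ≫ K.pOpcycles p = 0) : IsIso (HomologicalComplex.homologyMap f p) := by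
  have h1 : IsIso (K.homologyι p) := K.isIso_homologyι p (p + 1) (by simp) hK
  have h2 : IsIso (L.homologyι p) := L.isIso_homologyι p (p + 1) (by simp) hL
  have hc := he.gIsCokernel
  obtain ⟨s, hs⟩ : ∃ s : L.X p ⟶ K.opcycles p, f.f p ≫ s = K.pOpcycles p :=
    ⟨he.desc (K.pOpcycles p) ha, he.g_desc (K.pOpcycles p) ha⟩
  have hs' : L.d q p ≫ s = 0 := by
    rw [← cancel_epi (f.f q), f.comm_assoc, hs]
    simp
  let t : L.opcycles p ⟶ K.opcycles p := L.descOpcycles s q (by simp [← hq]) hs'
  have ht : L.pOpcycles p ≫ t = s := L.p_descOpcycles _ _ _ _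
  have h3 : HomologicalComplex.opcyclesMap f p ≫ t = 𝟙 _ := by
    rw [← cancel_epi (K.pOpcycles p), HomologicalComplex.p_opcyclesMap_assoc, ht, hs,
      Category.comp_id]
  have h4 : Mono (HomologicalComplex.opcyclesMap f p) := by
    have : Mono (HomologicalComplex.opcyclesMap f p ≫ t) := by rw [h3]; infer_instance
    exact mono_of_mono _ t
  have h5 : Epi (HomologicalComplex.opcyclesMap f p) := by
    have : Epi (K.pOpcycles p ≫ HomologicalComplex.opcyclesMap f p) := by
      rw [HomologicalComplex.p_opcyclesMap]; infer_instance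
    exact epi_of_epi (K.pOpcycles p) _
  have h6 : IsIso (HomologicalComplex.opcyclesMap f p) := isIso_of_mono_of_epi _
  have h7 : IsIso (HomologicalComplex.homologyMap f p ≫ L.homologyι p) := by
    rw [HomologicalComplex.homologyι_naturality]
    infer_instance
  exact IsIso.of_isIso_comp_right _ (L.homologyι p)

end Homology

variable {C : Type u} [Category.{v} C] [Abelian C] [EnoughInjectives C] (D : Data C)
  {B : Type u'} [Category.{v'} B] [Abelian B] (G : C ⥤ B) [G.Additive]

/-- `R^nG` on complexes. -/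
abbrev RC (n : ℕ) : CochainComplex C ℤ ⥤ CochainComplex B ℤ :=
  (G.rightDerived n).mapHomologicalComplex (ComplexShape.up ℤ)

/-- The short exact sequence in degree `i`. -/
abbrev sesAt (K : CochainComplex C ℤ) (i : ℤ) : ShortComplex C :=
  (ses D K).map (HomologicalComplex.eval C (.up ℤ) i)

omit [EnoughInjectives C] in
theorem sesAt_shortExact (K : CochainComplex C ℤ) (i : ℤ) : (sesAt D K i).ShortExact :=
  (ses_shortExact D K).map_of_exact (HomologicalComplex.eval C (.up ℤ) i)

/-- The differential of the short exact sequences. -/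
def sesD (K : CochainComplex C ℤ) (i j : ℤ) : sesAt D K i ⟶ sesAt D K j where
  τ₁ := (ses D K).X₁.d i j
  τ₂ := (ses D K).X₂.d i j
  τ₃ := (ses D K).X₃.d i j
  comm₁₂ := ((ses D K).f.comm i j).symm
  comm₂₃ := ((ses D K).g.comm i j).symm

/-- The chain map `R^nG(Z K) ⟶ R^{n+1}G(K)`. -/
def δC (n : ℕ) (K : CochainComplex C ℤ) : (RC G n).obj ((Z D).obj K) ⟶ (RC G (n + 1)).obj K where
  f i := RDer1.δ G (sesAt_shortExact D K i) n
  comm' i j _ := RDer1.δ_naturality G (sesAt_shortExact D K i) (sesAt_shortExact D K j) (sesD D K i j) n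

/-- The natural transformation `R^nG(Z K) ⟶ R^{n+1}G(K)`. -/
def δN (n : ℕ) : Z D ⋙ RC G n ⟶ RC G (n + 1) where
  app K := δC D G n K
  naturality K L φ := by
    ext i
    exact (RDer1.δ_naturality G (sesAt_shortExact D K i) (sesAt_shortExact D L i)
      ((HomologicalComplex.eval C (.up ℤ) i).mapShortComplex.map (sesMap D φ)) n).symm

/-- The iterates of `Z`. -/
def ZN : ℕ → (CochainComplex C ℤ ⥤ CochainComplex C ℤ)
  | 0 => 𝟭 _
  | n + 1 => Z D ⋙ ZN n

/-- `R^0G(Z^n K) ⟶ R^nG(K)`. -/
def wN : ∀ n : ℕ, ZN D n ⋙ RC G 0 ⟶ RC G n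
  | 0 => (Functor.leftUnitor _).hom
  | n + 1 => (Functor.associator _ _ _).hom ≫ Functor.whiskerLeft (Z D) (wN n) ≫ δN D G n

/-- All `R^iG(K^j)` vanish for `i > n`. -/
def Van (n : ℕ) (K : CochainComplex C ℤ) : Prop :=
  ∀ (j : ℤ) (i : ℕ), n < i → IsZero ((G.rightDerived i).obj (K.X j))

theorem isZero_IC_rd (K : CochainComplex C ℤ) (j : ℤ) (i : ℕ) :
    IsZero ((G.rightDerived (i + 1)).obj ((sesAt D K j).X₂)) :=
  RDer2.isAcyc_of_injective G ((IC D K).X j) i

theorem van_Z {n : ℕ} {K : CochainComplex C ℤ} (h : Van G (n + 1) K) : Van G n ((Z D).obj K) := by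
  intro j i hi
  obtain ⟨i, rfl⟩ := Nat.exists_eq_add_of_lt (Nat.zero_lt_of_lt hi)
  rw [zero_add] at hi ⊢
  exact RDer1.isZero_X₃ G (sesAt_shortExact D K j) (i + 1) (isZero_IC_rd D G K j i)
    (h j (i + 1 + 1) (by omega))

theorem van_ZN {n : ℕ} {K : CochainComplex C ℤ} (h : Van G n K) : Van G 0 ((ZN D n).obj K) := by
  induction n generalizing K with
  | zero => exact h
  | succ n ih => exact ih (van_Z D G h)

omit [EnoughInjectives C] in
theorem isStrictlyGE_ZN (n : ℕ) (K : CochainComplex C ℤ) (a : ℤ) [K.IsStrictlyGE a] :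
    ((ZN D n).obj K).IsStrictlyGE (a - n) := by
  induction n generalizing K a with
  | zero => simpa using inferInstanceAs (K.IsStrictlyGE a)
  | succ n ih =>
    have := isStrictlyGE_Z D K a (a - 1) (by lia)
    have h := ih ((Z D).obj K) (a - 1)
    have e : a - ((n + 1 : ℕ) : ℤ) = a - 1 - n := by push_cast; ring
    rw [e]
    exact h

theorem isIso_δN (n : ℕ) (K : CochainComplex C ℤ) : IsIso ((δN D G (n + 1)).app K) := by
  have h : ∀ i, IsIso (((δN D G (n + 1)).app K).f i) := fun i =>
    RDer1.isIso_δ G (sesAt_shortExact D K i) (n + 1) (isZero_IC_rd D G K i n) (isZero_IC_rd D G K i (n + 1))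
  exact HomologicalComplex.Hom.isIso_of_components _

theorem isIso_homologyMap_δN_zero (K : CochainComplex C ℤ) (p : ℤ) [K.IsStrictlyLE p] :
    IsIso (HomologicalComplex.homologyMap ((δN D G 0).app K) p) := by
  obtain ⟨q, rfl⟩ : ∃ q, q + 1 = p := ⟨p - 1, by lia⟩
  have hZ : IsZero (((Z D).obj K).X (q + 1 + 1)) :=
    ((Z D).obj K).isZero_of_isStrictlyLE (q + 1) _ (by lia)
  have hK : IsZero (K.X (q + 1 + 1)) := K.isZero_of_isStrictlyLE (q + 1) _ (by lia)
  have hepi : ∀ i, Epi (((δN D G 0).app K).f i) := fun i =>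
    RDer1.epi_δ G (sesAt_shortExact D K i) 0 (isZero_IC_rd D G K i 0)
  have hI : IsSplitEpi ((IC D K).d q (q + 1)) := by
    refine ⟨⟨fst D K (q + 1) ≫ inr D K q, ?_⟩⟩
    apply hom_ext_to
    · simp
    · exact (D.zero _ hK).eq_of_tgt _ _
  have hI' : Epi ((G.rightDerived 0).map ((IC D K).d q (q + 1))) := inferInstance
  refine isIso_homologyMap_top ((δN D G 0).app K) (q + 1) q rfl
    (((G.rightDerived 0).map_isZero hZ).eq_of_tgt _ _)
    (((G.rightDerived 1).map_isZero hK).eq_of_tgt _ _) (hepi _) (hepi _)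
    ((G.rightDerived 0).map (sesAt D K (q + 1)).g) (RDer1.comp_δ G (sesAt_shortExact D K (q + 1)) 0)
    (RDer1.exact₃ G (sesAt_shortExact D K (q + 1)) 0) ?_
  let g : ∀ i, (IC D K).X i ⟶ ((Z D).obj K).X i := fun i => (ses D K).g.f i
  have h1 : (G.rightDerived 0).map ((IC D K).d q (q + 1)) ≫ (G.rightDerived 0).map (g (q + 1)) =
      (G.rightDerived 0).map (g q) ≫ ((RC G 0).obj ((Z D).obj K)).d q (q + 1) :=
    ((G.rightDerived 0).map_comp _ _).symm.trans
      ((congrArg (G.rightDerived 0).map ((ses D K).g.comm q (q + 1)).symm).trans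
        ((G.rightDerived 0).map_comp _ _))
  have h2 : (G.rightDerived 0).map ((IC D K).d q (q + 1)) ≫ (G.rightDerived 0).map (g (q + 1)) ≫
      ((RC G 0).obj ((Z D).obj K)).pOpcycles (q + 1) = 0 :=
    (Category.assoc _ _ _).symm.trans ((congrArg (· ≫ _) h1).trans
      ((Category.assoc _ _ _).trans ((congrArg (_ ≫ ·)
        (HomologicalComplex.d_pOpcycles ((RC G 0).obj ((Z D).obj K)) q (q + 1))).trans comp_zero)))
  exact (cancel_epi ((G.rightDerived 0).map ((IC D K).d q (q + 1)))).1 (h2.trans comp_zero.symm)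

theorem isIso_homologyMap_δN (n : ℕ) (K : CochainComplex C ℤ) (p : ℤ) [K.IsStrictlyLE p] :
    IsIso (HomologicalComplex.homologyMap ((δN D G n).app K) p) := by
  cases n with
  | zero => exact isIso_homologyMap_δN_zero D G K p
  | succ n =>
    have := isIso_δN D G n K
    exact (inferInstance : IsIso ((HomologicalComplex.homologyFunctor B (.up ℤ) p).map
      ((δN D G (n + 1)).app K)))

theorem isIso_homologyMap_wN (n : ℕ) (K : CochainComplex C ℤ) (p : ℤ) [K.IsStrictlyLE p] :
    IsIso (HomologicalComplex.homologyMap ((wN D G n).app K) p) := by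
  induction n generalizing K with
  | zero =>
    change IsIso (HomologicalComplex.homologyMap (𝟙 _) p)
    rw [HomologicalComplex.homologyMap_id]
    infer_instance
  | succ n ih =>
    have h1 := ih ((Z D).obj K)
    have h2 := isIso_homologyMap_δN D G n K p
    have e : (wN D G (n + 1)).app K = (wN D G n).app ((Z D).obj K) ≫ (δN D G n).app K := by
      change 𝟙 _ ≫ _ ≫ _ = _
      rw [Category.id_comp]
      rfl
    have h3 := HomologicalComplex.homologyMap_comp ((wN D G n).app ((Z D).obj K)) ((δN D G n).app K) p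
    rw [e]
    have h4 : IsIso (HomologicalComplex.homologyMap ((wN D G n).app ((Z D).obj K)) p ≫
      HomologicalComplex.homologyMap ((δN D G n).app K) p) := IsIso.comp_isIso
    rw [← h3] at h4
    exact h4

end Groth.Agent.Etdl.H860.Delta

end
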