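import Groth.Agent.Etdl.H860.WayOut
import Groth.Agent.CurvesC.Dual1
import Groth.Agent.S1033

/-!
# Detecting vanishing and isomorphisms in `D^+` on maps from `M[k]`; effaceability
-/

set_option autoImplicit false
set_option linter.unusedSectionVars false

universe w w' v v' u u'

open CategoryTheory CategoryTheory.Limits ZeroObject Pretriangulated

noncomputable section

namespace Groth.Agent.Etdl.H860.Detect

open Groth.Agent.Etrest WayOut

variable {A : Type u} [Category.{v} A] [Abelian A] [HasDerivedCategory.{w} A]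

/-- `K` is `≥ -κ` if it receives no maps from `M[k]`, `k > κ`. -/
theorem isGE_of_hom_eq_zero (K : DerivedCategory.Plus A) (κ : ℤ)
    (h : ∀ (k : ℤ) (M : A), κ < k → ∀ g : sg k M ⟶ K, g = 0) : K.IsGE (-κ) := by
  suffices H : ∀ (m : ℕ) (a : ℤ) (_ : -κ - m ≤ a) (_ : K.IsGE a), K.IsGE (-κ) by
    obtain ⟨n, hn⟩ := K.property
    exact H (-κ - n).toNat n (by lia) ⟨hn.1⟩
  intro m
  induction m with
  | zero =>
    intro a ha hK
    exact DerivedCategory.Plus.TStructure.t.isGE_of_ge _ (-κ) a (by push_cast at ha; lia)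
  | succ m ih =>
    intro a ha hK
    by_cases hκ : -κ ≤ a
    · exact DerivedCategory.Plus.TStructure.t.isGE_of_ge _ (-κ) a hκ
    refine ih (a + 1) (by push_cast at ha; lia) ?_
    obtain ⟨M, ⟨e⟩⟩ := exists_iso_sg ((DerivedCategory.Plus.TStructure.t.truncLE a).obj K) a
      inferInstance inferInstance
    have h0 : (DerivedCategory.Plus.TStructure.t.truncLEι a).app K = 0 := by
      have h1 : e.inv ≫ (DerivedCategory.Plus.TStructure.t.truncLEι a).app K = 0 := h (-a) M (by lia) _
      exact (Preadditive.IsIso.comp_left_eq_zero e.inv _).1 h1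
    refine (DerivedCategory.Plus.TStructure.t.isGE_iff_isZero_truncLE_obj a (a + 1) rfl K).2 ?_
    have h2 : IsIso ((DerivedCategory.Plus.TStructure.t.truncLE a).map
      ((DerivedCategory.Plus.TStructure.t.truncLEι a).app K)) := inferInstance
    rw [h0, Functor.map_zero] at h2
    exact ((isIsoZero_iff_source_target_isZero _ _).1 h2).2

/-- `K` is zero if it receives no maps from `M[k]`. -/
theorem isZero_of_hom_eq_zero (K : DerivedCategory.Plus A)
    (h : ∀ (k : ℤ) (M : A) (g : sg k M ⟶ K), g = 0) : IsZero K := by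
  have h1 : ∀ n, K.IsGE n := fun n => by
    simpa using isGE_of_hom_eq_zero K (-n) (fun k M _ => h k M)
  have h2 : IsIso (0 : K ⟶ 0) := by
    rw [DerivedCategory.Plus.isIso_iff]
    intro n
    have := h1 (n + 1)
    have h3 := DerivedCategory.Plus.isZero_homology_of_isGE K (n + 1) n (by lia)
    exact ⟨0, h3.eq_of_src _ _, (Functor.map_isZero _ (isZero_zero _)).eq_of_src _ _⟩
  exact IsZero.of_iso (isZero_zero _) (@asIso _ _ _ _ _ h2)

/-- Isomorphisms are detected on maps from `M[k]`. -/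
theorem isIso_of_bijective {X Y : DerivedCategory.Plus A} (f : X ⟶ Y)
    (h : ∀ (k : ℤ) (M : A), Function.Bijective (fun g : sg k M ⟶ X => g ≫ f)) : IsIso f := by
  obtain ⟨Z, g, δ, hT⟩ := Pretriangulated.distinguished_cocone_triangle f
  refine (Triangle.isZero₃_iff_isIso₁ _ hT).1 (isZero_of_hom_eq_zero _ fun k M (x : sg k M ⟶ Z) => ?_)
  -- `x ≫ δ` is zero
  have h1 : x ≫ δ = 0 := by
    let e := sgShift (k - 1) 1 k (by lia) M
    obtain ⟨y, hy⟩ := (shiftFunctor (DerivedCategory.Plus A) (1 : ℤ)).map_surjective (e.hom ≫ x ≫ δ)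
    have hδ : δ ≫ f⟦(1 : ℤ)⟧' = 0 := comp_distTriang_mor_zero₃₁ _ hT
    have hyf : y ≫ f = 0 := by
      apply (shiftFunctor (DerivedCategory.Plus A) (1 : ℤ)).map_injective
      rw [Functor.map_comp, hy, Category.assoc, Category.assoc, hδ, comp_zero, comp_zero, Functor.map_zero]
    have hy' : y = 0 := (h (k - 1) M).injective (hyf.trans zero_comp.symm)
    rw [hy', Functor.map_zero] at hy
    exact (Preadditive.IsIso.comp_left_eq_zero e.hom _).1 hy.symm
  obtain ⟨z, hz⟩ : ∃ z : sg k M ⟶ Y, x = z ≫ g := Triangle.coyoneda_exact₃ _ hT x h1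
  obtain ⟨z', hz'⟩ := (h k M).surjective z
  have hfg : f ≫ g = 0 := comp_distTriang_mor_zero₁₂ _ hT
  have hz'' : z' ≫ f = z := hz'
  have h3 : z ≫ g = 0 := by rw [← hz'', Category.assoc, hfg, comp_zero]
  exact hz.trans h3

/-- Effaceability of morphisms `M[k] ⟶ K`, `K < -k`. -/
theorem exists_epi (K : DerivedCategory.Plus A) (n k : ℤ) (hK : K.IsLE n) (hn : n < -k) (M : A)
    (x : sg k M ⟶ K) :
    ∃ (P : A) (p : P ⟶ M), Epi p ∧
      ((DerivedCategory.Plus.singleFunctor A 0).map p)⟦k⟧' ≫ x = 0 := by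
  have hK' : (DerivedCategory.Plus.ι.obj K).IsLE n := inferInstance
  obtain ⟨L, hL, ⟨e⟩⟩ := DerivedCategory.exists_iso_Q_obj_of_isLE (DerivedCategory.Plus.ι.obj K) n
  obtain ⟨P, p, hp, h⟩ := S1033.exists_epi_comp_eq_zero (i := -k) (X := M) (L := L)
    (DerivedCategory.Plus.ι.map ((sgIso k (-k) (by lia) M).inv ≫ x) ≫ e.hom) n hn
  refine ⟨P, p, hp, ?_⟩
  have h1 : DerivedCategory.Plus.ι.map (((DerivedCategory.Plus.singleFunctor A (-k)).map p) ≫
      ((sgIso k (-k) (by lia) M).inv ≫ x)) ≫ e.hom = 0 := by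
    rw [Functor.map_comp, Category.assoc]
    exact h
  have h2 : ((DerivedCategory.Plus.singleFunctor A (-k)).map p) ≫ ((sgIso k (-k) (by lia) M).inv ≫ x) = 0 := by
    apply DerivedCategory.Plus.ι.map_injective
    rw [Functor.map_zero]
    exact (Preadditive.IsIso.comp_right_eq_zero _ e.hom).1 h1
  have h3 : ((DerivedCategory.Plus.singleFunctor A 0).map p)⟦k⟧' ≫ (sgIso k (-k) (by lia) M).hom =
      (sgIso k (-k) (by lia) P).hom ≫ (DerivedCategory.Plus.singleFunctor A (-k)).map p :=
    ((DerivedCategory.Plus.singleFunctors A).shiftIso k (-k) 0 (by lia)).hom.naturality p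
  have h4 : ((DerivedCategory.Plus.singleFunctor A 0).map p)⟦k⟧' = (sgIso k (-k) (by lia) P).hom ≫
      (DerivedCategory.Plus.singleFunctor A (-k)).map p ≫ (sgIso k (-k) (by lia) M).inv := by
    rw [← Category.assoc, ← h3, Category.assoc, Iso.hom_inv_id, Category.comp_id]
  rw [h4, Category.assoc, Category.assoc, h2, comp_zero]

/-- Morphisms to `J[k]`, `J` injective. -/
theorem bijective_homology (K : DerivedCategory.Plus A) (J : A) [Injective J] (n : ℤ) :
    Function.Bijective (fun f : K ⟶ (DerivedCategory.Plus.singleFunctor A n).obj J =>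
      (DerivedCategory.Plus.homologyFunctor A n).map f) :=
  (CurvesC.Dual1.homologyFunctor_map_bijective (DerivedCategory.Plus.ι.obj K) J n).comp
    (DerivedCategory.TStructure.t.plus.fullyFaithfulι.map_bijective _ _)

end Groth.Agent.Etdl.H860.Detect

end
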