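import Groth.Agent.Etrest.RDer1

/-!
# The derived functor on `D^+` is triangulated
-/

set_option autoImplicit false

universe w w' v v' u u'

open CategoryTheory CategoryTheory.Limits

noncomputable section

namespace Groth.Agent.Etdl.H860.RDTri

open Groth.Agent.Etrest

variable {C : Type u} [Category.{v} C] [Abelian C] [HasDerivedCategory.{w} C] [EnoughInjectives C]
  {B : Type u'} [Category.{v'} B] [Abelian B] [HasDerivedCategory.{w'} B] (G : C ⥤ B) [G.Additive]

/-- The derived functor on `D^+` commutes with shifts. -/
instance commShift : G.rightDerivedFunctorPlus.CommShift ℤ :=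
  Functor.CommShift.ofIso (RDer1.RGIso G).symm ℤ

instance commShift_compat : NatTrans.CommShift (RDer1.RGIso G).symm.hom ℤ :=
  Functor.CommShift.ofIso_compatibility (RDer1.RGIso G).symm ℤ

instance isTriangulated : G.rightDerivedFunctorPlus.IsTriangulated :=
  Functor.isTriangulated_of_iso (RDer1.RGIso G).symm

end Groth.Agent.Etdl.H860.RDTri

end
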