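import Groth.Agent.Etdl.H860.Rho
import Groth.Agent.Etdl.H860.RDTri

/-!
# Extension of a sheaf-level trace to `D^+`

`j : A ⥤ C` exact, `G : C ⥤ B` left exact with `R^iG(j M) = 0` for `i > N`, `T : B ⥤ A` exact, and
`tr : T ⋙ j ⋙ R^NG ⟶ 𝟭`. Then there is a natural transformation
`T^+ ⋙ [N] ⋙ j^+ ⋙ G^+ ⟶ 𝟭` extending `tr`.
-/

set_option autoImplicit false

universe w w₁ w' v v₁ v' u u₁ u'

open CategoryTheory CategoryTheory.Limits

noncomputable section

namespace Groth.Agent.Etdl.H860.Eps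

open FunInj ZFun Delta Rho RDTri Groth.Agent.Etrest

variable {A : Type u₁} [Category.{v₁} A] [Abelian A] [HasDerivedCategory.{w₁} A] [EnoughInjectives A]
  {C : Type u} [Category.{v} C] [Abelian C] [HasDerivedCategory.{w} C] [EnoughInjectives C] (D : Data C)
  {B : Type u'} [Category.{v'} B] [Abelian B] [HasDerivedCategory.{w'} B]
  (j : A ⥤ C) [j.Additive] [PreservesFiniteLimits j] [PreservesFiniteColimits j]
  (G : C ⥤ B) [G.Additive] [PreservesFiniteLimits G] (N : ℕ)

omit [EnoughInjectives C] in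
/-- The unit of an exact functor is invertible. -/
theorem isIso_unitC_exact : IsIso (unitC j) := by
  have h := Etdl.H424.PlusAdj.isIso_unit j
  rw [NatTrans.isIso_iff_isIso_app] at h ⊢
  intro K
  exact h ((HomotopyCategory.Plus.quotient A).obj K)

/-- For an exact functor the derived functor is computed termwise. -/
def exactIso : DerivedCategory.Plus.Q ⋙ j.rightDerivedFunctorPlus ≅
    j.mapCochainComplexPlus ⋙ DerivedCategory.Plus.Q :=
  haveI := isIso_unitC_exact j
  (asIso (unitC j)).symm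

/-- The functor `Rf_!`. -/
abbrev RF : DerivedCategory.Plus A ⥤ DerivedCategory.Plus B :=
  j.rightDerivedFunctorPlus ⋙ G.rightDerivedFunctorPlus

variable (hN : ∀ (M : A) (i : ℕ), N < i → IsZero ((G.rightDerived i).obj (j.obj M)))

/-- The natural transformation `Rf_!(E[N]) ⟶ (R^Nf_!)(E)`. -/
def ρ : DerivedCategory.Plus.Q ⋙ shiftFunctor (DerivedCategory.Plus A) (N : ℤ) ⋙ RF j G ⟶
    (j.mapCochainComplexPlus ⋙ (G.rightDerived N).mapCochainComplexPlus) ⋙ DerivedCategory.Plus.Q :=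
  (Functor.isoWhiskerLeft DerivedCategory.Plus.Q
    (Functor.isoWhiskerRight (j.rightDerivedFunctorPlus.commShiftIso (N : ℤ)) G.rightDerivedFunctorPlus)).hom ≫
  Functor.whiskerRight (exactIso j).hom
    (shiftFunctor (DerivedCategory.Plus C) (N : ℤ) ⋙ G.rightDerivedFunctorPlus) ≫
  etaN G D N j.mapCochainComplexPlus (fun c m i hi => hN (c.obj.X m) i hi)

theorem isIso_homology_ρ (E : CochainComplex.Plus A) (p : ℤ) [E.obj.IsStrictlyLE p] :
    IsIso ((DerivedCategory.Plus.homologyFunctor B p).map ((ρ D j G N hN).app E)) := by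
  have h0 : ((j.mapCochainComplexPlus.obj E).obj).IsStrictlyLE p :=
    inferInstanceAs (CochainComplex.IsStrictlyLE ((j.mapHomologicalComplex (.up ℤ)).obj E.obj) p)
  have h1 := isIso_homology_etaN G D N j.mapCochainComplexPlus (fun c m i hi => hN (c.obj.X m) i hi) E p
  have h2 : IsIso ((Functor.isoWhiskerLeft DerivedCategory.Plus.Q
    (Functor.isoWhiskerRight (j.rightDerivedFunctorPlus.commShiftIso (N : ℤ)) G.rightDerivedFunctorPlus)).hom.app E) :=
    inferInstance
  have h3 : IsIso ((Functor.whiskerRight (exactIso j).hom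
    (shiftFunctor (DerivedCategory.Plus C) (N : ℤ) ⋙ G.rightDerivedFunctorPlus)).app E) :=
    inferInstance
  rw [ρ, NatTrans.comp_app, NatTrans.comp_app, Functor.map_comp, Functor.map_comp]
  infer_instance

variable (T : B ⥤ A) [T.Additive] [PreservesFiniteLimits T] [PreservesFiniteColimits T] [EnoughInjectives B]
  (tr : T ⋙ j ⋙ G.rightDerived N ⟶ 𝟭 B)

/-- The trace on complexes. -/
def trC : T.mapCochainComplexPlus ⋙ j.mapCochainComplexPlus ⋙ (G.rightDerived N).mapCochainComplexPlus ⟶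
    𝟭 (CochainComplex.Plus B) where
  app L := ObjectProperty.homMk
    { f := fun i => tr.app (L.obj.X i)
      comm' := fun i k _ => (tr.naturality (L.obj.d i k)).symm }
  naturality L M φ := by
    ext i
    exact tr.naturality (φ.hom.f i)

/-- The functor `T^+[N]`. -/
abbrev HF : DerivedCategory.Plus B ⥤ DerivedCategory.Plus A :=
  T.rightDerivedFunctorPlus ⋙ shiftFunctor (DerivedCategory.Plus A) (N : ℤ)

/-- The extended trace, on complexes. -/
def epsC : DerivedCategory.Plus.Q ⋙ (HF N T ⋙ RF j G) ⟶ DerivedCategory.Plus.Q ⋙ 𝟭 (DerivedCategory.Plus B) :=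
  (Functor.whiskerRight (exactIso T).hom (shiftFunctor (DerivedCategory.Plus A) (N : ℤ) ⋙ RF j G) :) ≫
    Functor.whiskerLeft T.mapCochainComplexPlus (ρ D j G N hN) ≫
    Functor.whiskerRight (trC j G N T tr) DerivedCategory.Plus.Q

omit [EnoughInjectives B] in
/-- Natural transformations between functors on `D^+` can be defined on complexes. -/
theorem exists_liftQ {E : Type u₁} [Category.{v₁} E] {F₁ F₂ : DerivedCategory.Plus B ⥤ E}
    (τ : DerivedCategory.Plus.Q ⋙ F₁ ⟶ DerivedCategory.Plus.Q ⋙ F₂) :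
    ∃ σ : F₁ ⟶ F₂, ∀ L : CochainComplex.Plus B,
      σ.app (DerivedCategory.Plus.Q.obj L) = τ.app L := by
  have f1 := Localization.full_whiskeringLeft (HomotopyCategory.Plus.quotient B)
    ((HomologicalComplex.homotopyEquivalences B (.up ℤ)).inverseImage (CochainComplex.Plus.ι B)) E
  have f2 := Localization.full_whiskeringLeft (DerivedCategory.Plus.Qh (C := B))
    (HomotopyCategory.Plus.quasiIso B) E
  obtain ⟨σ1, h1⟩ := f1.map_surjective (X := DerivedCategory.Plus.Qh ⋙ F₁) (Y := DerivedCategory.Plus.Qh ⋙ F₂) τ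
  obtain ⟨σ2, h2⟩ := f2.map_surjective (X := F₁) (Y := F₂) σ1
  refine ⟨σ2, fun L => ?_⟩
  rw [← h1, ← h2]
  rfl

/-- The extended trace. -/
def eps : HF N T ⋙ RF j G ⟶ 𝟭 (DerivedCategory.Plus B) :=
  (exists_liftQ (epsC D j G N hN T tr)).choose

theorem eps_app (L : CochainComplex.Plus B) :
    (eps D j G N hN T tr).app (DerivedCategory.Plus.Q.obj L) = (epsC D j G N hN T tr).app L :=
  (exists_liftQ (epsC D j G N hN T tr)).choose_spec L

omit [Abelian A] [HasDerivedCategory.{w₁} A] [EnoughInjectives A] in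
theorem paste {X₀ X₁ X₂ X₃ X₄ Y : A} {a : X₀ ⟶ X₁} {b : X₁ ⟶ X₂} {c : X₂ ⟶ X₁} {d : X₁ ⟶ X₃} {t : X₃ ⟶ X₄}
    {r : X₀ ⟶ Y} {q : Y ⟶ X₃} (h2 : b ≫ c = 𝟙 _) (h3 : a ≫ d = r ≫ q) :
    (a ≫ b) ≫ c ≫ d ≫ t = r ≫ q ≫ t := by
  rw [Category.assoc, reassoc_of% h2, reassoc_of% h3]

/-- The composite of a morphism with the extended trace. -/
theorem map_comp_eps (E : CochainComplex.Plus A) (L : CochainComplex.Plus B)
    (g : E ⟶ T.mapCochainComplexPlus.obj L) :
    (RF j G).map ((DerivedCategory.Plus.Q.map g)⟦(N : ℤ)⟧' ≫ ((exactIso T).inv.app L)⟦(N : ℤ)⟧') ≫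
      (eps D j G N hN T tr).app (DerivedCategory.Plus.Q.obj L) =
    (ρ D j G N hN).app E ≫ DerivedCategory.Plus.Q.map
      ((j.mapCochainComplexPlus ⋙ (G.rightDerived N).mapCochainComplexPlus).map g ≫ (trC j G N T tr).app L) := by
  rw [eps_app]
  have h1 : (epsC D j G N hN T tr).app L = (RF j G).map (((exactIso T).hom.app L)⟦(N : ℤ)⟧') ≫
      (ρ D j G N hN).app (T.mapCochainComplexPlus.obj L) ≫
        DerivedCategory.Plus.Q.map ((trC j G N T tr).app L) := rfl
  have h2 : (RF j G).map (((exactIso T).inv.app L)⟦(N : ℤ)⟧') ≫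
      (RF j G).map (((exactIso T).hom.app L)⟦(N : ℤ)⟧') = 𝟙 _ := by
    rw [← Functor.map_comp, ← Functor.map_comp, Iso.inv_hom_id_app, CategoryTheory.Functor.map_id,
      CategoryTheory.Functor.map_id]
  have h3 : (RF j G).map ((DerivedCategory.Plus.Q.map g)⟦(N : ℤ)⟧') ≫
      (ρ D j G N hN).app (T.mapCochainComplexPlus.obj L) = (ρ D j G N hN).app E ≫
      DerivedCategory.Plus.Q.map
        ((j.mapCochainComplexPlus ⋙ (G.rightDerived N).mapCochainComplexPlus).map g) :=
    (ρ D j G N hN).naturality g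
  rw [h1, (RF j G).map_comp, DerivedCategory.Plus.Q.map_comp]
  exact paste h2 h3

end Groth.Agent.Etdl.H860.Eps

end
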