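import Mathlib.CategoryTheory.Abelian.GrothendieckCategory.EnoughInjectives

/-!
# Functorial embeddings into injective objects

In a Grothendieck abelian category there is a functor `inj : C ⥤ C` (not additive) with `inj.obj X` injective,
`inj.obj 0 = 0`, and a natural monomorphism `ι : 𝟭 C ⟶ inj`.
-/

set_option autoImplicit false

universe w v u

open CategoryTheory CategoryTheory.Limits ZeroObject

noncomputable section

namespace Groth.Agent.Etdl.H860.FunInj

/-- A functorial embedding into injective objects. -/
structure Data (C : Type u) [Category.{v} C] [HasZeroMorphisms C] where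
  /-- the functor -/
  J : C ⥤ C
  /-- the natural embedding -/
  ι : ∀ X : C, X ⟶ J.obj X
  naturality : ∀ {X Y : C} (f : X ⟶ Y), f ≫ ι Y = ι X ≫ J.map f
  mono : ∀ X, Mono (ι X)
  inj : ∀ X, Injective (J.obj X)
  zero : ∀ X, IsZero X → IsZero (J.obj X)

variable (C : Type u) [Category.{v} C] [Abelian C] [IsGrothendieckAbelian.{w} C]

/-- The functor `X ↦ (X ⟶ 0)`. -/
def toArrow : C ⥤ Arrow C where
  obj X := Arrow.mk (0 : X ⟶ (0 : C))
  map f := Arrow.homMk f (𝟙 _) (by simp)

/-- functorial factorization -/
abbrev fac : MorphismProperty.FunctorialFactorizationData (MorphismProperty.monomorphisms C)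
    (MorphismProperty.monomorphisms C).rlp :=
  MorphismProperty.functorialFactorizationData _ _

/-- first version of the functor -/
def J₀ : C ⥤ C := toArrow C ⋙ (fac C).Z

/-- first version of the embedding -/
def ι₀ : 𝟭 C ⟶ J₀ C where
  app X := (fac C).i.app ((toArrow C).obj X)
  naturality _ _ f := (fac C).i.naturality ((toArrow C).map f)

instance (X : C) : Mono ((ι₀ C).app X) := (fac C).hi _

instance (X : C) : Injective ((J₀ C).obj X) := by
  rw [injective_iff_rlp_monomorphisms_zero]
  have h := (fac C).hp ((toArrow C).obj X)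
  have e : (fac C).p.app ((toArrow C).obj X) = (0 : (J₀ C).obj X ⟶ 0) :=
    (isZero_zero C).eq_of_tgt _ _
  rwa [e] at h

/-- the functor -/
def J : C ⥤ C where
  obj X := kernel ((J₀ C).map (0 : X ⟶ (0 : C)))
  map {X Y} f := kernel.map _ _ ((J₀ C).map f) (𝟙 _) (by rw [Category.comp_id, ← Functor.map_comp]; simp)
  map_id X := by ext; simp
  map_comp f g := by ext; simp

/-- the embedding -/
def ι : 𝟭 C ⟶ J C where
  app X := kernel.lift _ ((ι₀ C).app X) (by
    have := (ι₀ C).naturality (0 : X ⟶ (0 : C))
    rw [← this]; simp)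
  naturality _ _ f := by
    apply (cancel_mono (kernel.ι _)).1
    simp only [J, Category.assoc, kernel.lift_ι, kernel.lift_ι_assoc, kernel.map]
    exact (ι₀ C).naturality f

instance (X : C) : Mono ((ι C).app X) := by
  have h : (ι C).app X ≫ kernel.ι _ = (ι₀ C).app X := kernel.lift_ι _ _ _
  have : Mono ((ι C).app X ≫ kernel.ι _) := by rw [h]; infer_instance
  exact mono_of_mono _ (kernel.ι _)

instance (X : C) : Injective ((J C).obj X) := by
  let a := (J₀ C).map (0 : X ⟶ (0 : C))
  let b := (J₀ C).map (0 : (0 : C) ⟶ X)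
  have hba : b ≫ a = 𝟙 _ := by
    simp only [a, b]
    rw [← Functor.map_comp, (isZero_zero C).eq_of_src ((0 : (0 : C) ⟶ X) ≫ 0) (𝟙 _),
      CategoryTheory.Functor.map_id]
  have h : (𝟙 _ - a ≫ b) ≫ a = 0 := by
    rw [Preadditive.sub_comp, Category.id_comp, Category.assoc, hba, Category.comp_id, sub_self]
  refine (Retract.mk (kernel.ι a) (kernel.lift a (𝟙 _ - a ≫ b) h) ?_).injective
  ext
  simp [Preadditive.comp_sub]

theorem J_zero (X : C) (hX : IsZero X) : IsZero ((J C).obj X) := by
  have : IsIso (0 : X ⟶ (0 : C)) := ⟨0, hX.eq_of_src _ _, (isZero_zero C).eq_of_src _ _⟩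
  exact (isZero_kernel_of_mono ((J₀ C).map (0 : X ⟶ (0 : C))))

/-- The functorial embedding in a Grothendieck abelian category. -/
def data : Data C where
  J := J C
  ι := (ι C).app
  naturality f := (ι C).naturality f
  mono := inferInstance
  inj := inferInstance
  zero := J_zero C

end Groth.Agent.Etdl.H860.FunInj

end
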