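import Groth.Agent.Etdl.H860.Delta
import Groth.Agent.Etdl.H424.PlusAdj

/-!
# The natural transformation `R F (K[N]) ⟶ (R^N F)(K)` on bounded below complexes
-/

set_option autoImplicit false

universe w w₁ w' v v₁ v' u u₁ u'

open CategoryTheory CategoryTheory.Limits ZeroObject

noncomputable section

namespace Groth.Agent.Etdl.H860.Rho

open FunInj ZFun Delta Groth.Agent.Etrest

section Shift

variable {C : Type u} [Category.{v} C] [Abelian C] [HasDerivedCategory.{w} C] (D : Data C)

theorem isIso_triangleOfSESδ (K : CochainComplex C ℤ) :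
    IsIso (DerivedCategory.triangleOfSESδ (ses_shortExact D K)) := by
  refine (Pretriangulated.Triangle.isZero₂_iff_isIso₃ _
    (DerivedCategory.triangleOfSES_distinguished (ses_shortExact D K))).1 ?_
  have h : ∀ n, IsZero ((DerivedCategory.homologyFunctor C n).obj (DerivedCategory.Q.obj (IC D K))) := by
    intro n
    refine IsZero.of_iso ?_ ((DerivedCategory.homologyFunctorFactors C n).app (IC D K))
    exact (HomologicalComplex.exactAt_iff_isZero_homology _ _).1 (exactAt_IC D K n)
  have h1 : IsIso (0 : DerivedCategory.Q.obj (IC D K) ⟶ 0) := by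
    rw [DerivedCategory.isIso_iff]
    intro n
    exact ⟨0, (h n).eq_of_src _ _, (Functor.map_isZero _ (isZero_zero _)).eq_of_src _ _⟩
  exact IsZero.of_iso (isZero_zero _) (@asIso _ _ _ _ _ h1)

/-- `Q(Z K) ≅ Q(K)[1]`. -/
def sOne : Z D ⋙ DerivedCategory.Q ≅ DerivedCategory.Q ⋙ shiftFunctor (DerivedCategory C) (1 : ℤ) :=
  NatIso.ofComponents (fun K => @asIso _ _ _ _ (DerivedCategory.triangleOfSESδ (ses_shortExact D K))
      (isIso_triangleOfSESδ D K))
    (fun {K L} φ => (DerivedCategory.triangleOfSESδ_naturality (ses_shortExact D K) (ses_shortExact D L)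
      (sesMap D φ)).symm)

/-- `Q(Z^n K) ≅ Q(K)[n]`. -/
def sN : ∀ n : ℕ, ZN D n ⋙ DerivedCategory.Q ≅
    DerivedCategory.Q ⋙ shiftFunctor (DerivedCategory C) (n : ℤ)
  | 0 => Functor.leftUnitor _ ≪≫ (Functor.rightUnitor _).symm ≪≫
      Functor.isoWhiskerLeft _ (shiftFunctorZero' (DerivedCategory C) ((0 : ℕ) : ℤ) rfl).symm
  | n + 1 => Functor.associator _ _ _ ≪≫ Functor.isoWhiskerLeft (Z D) (sN n) ≪≫
      (Functor.associator _ _ _).symm ≪≫ Functor.isoWhiskerRight (sOne D) _ ≪≫
      Functor.associator _ _ _ ≪≫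
      Functor.isoWhiskerLeft _ (shiftFunctorAdd' (DerivedCategory C) (1 : ℤ) (n : ℤ) ((n + 1 : ℕ) : ℤ)
        (by push_cast; ring)).symm

/-- `Z^n` on bounded below complexes. -/
def ZNP (n : ℕ) : CochainComplex.Plus C ⥤ CochainComplex.Plus C :=
  ObjectProperty.lift _ (CochainComplex.Plus.ι C ⋙ ZN D n) (fun K => by
    obtain ⟨a, ha⟩ := K.property
    exact ⟨a - n, isStrictlyGE_ZN D n K.obj a⟩)

/-- `Q` on bounded below complexes, compared with `Q`. -/
def QPι : DerivedCategory.Plus.Q (C := C) ⋙ DerivedCategory.Plus.ι ≅ CochainComplex.Plus.ι C ⋙ DerivedCategory.Q :=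
  Functor.isoWhiskerLeft (CochainComplex.Plus.ι C) (DerivedCategory.quotientCompQhIso C)

/-- `Q(Z^n K) ≅ Q(K)[n]` in `D^+`. -/
def sNP (n : ℕ) : ZNP D n ⋙ DerivedCategory.Plus.Q ≅
    DerivedCategory.Plus.Q ⋙ shiftFunctor (DerivedCategory.Plus C) (n : ℤ) :=
  ((DerivedCategory.TStructure.t (C := C)).plus.fullyFaithfulι.whiskeringRight _).preimageIso
    (Functor.associator _ _ _ ≪≫ Functor.isoWhiskerLeft (ZNP D n) QPι ≪≫
      Functor.isoWhiskerLeft (CochainComplex.Plus.ι C) (sN D n) ≪≫ (Functor.associator _ _ _).symm ≪≫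
      Functor.isoWhiskerRight QPι.symm (shiftFunctor (DerivedCategory C) (n : ℤ)) ≪≫
      Functor.associator _ _ _ ≪≫
      Functor.isoWhiskerLeft _ (DerivedCategory.Plus.ι.commShiftIso (n : ℤ)).symm ≪≫
      (Functor.associator _ _ _).symm)

end Shift

section Unit

variable {C : Type u} [Category.{v} C] [Abelian C] [HasDerivedCategory.{w} C] [EnoughInjectives C]
  {B : Type u'} [Category.{v'} B] [Abelian B] [HasDerivedCategory.{w'} B] (G : C ⥤ B) [G.Additive]

/-- The unit of the derived functor, on complexes. -/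
def unitC : G.mapCochainComplexPlus ⋙ DerivedCategory.Plus.Q ⟶ DerivedCategory.Plus.Q ⋙ G.rightDerivedFunctorPlus :=
  (Functor.whiskerLeft (HomotopyCategory.Plus.quotient C) G.rightDerivedFunctorPlusUnit :)

theorem isIso_unitC [PreservesFiniteLimits G] (K : CochainComplex.Plus C) (h : Van G 0 K.obj) :
    IsIso ((unitC G).app K) :=
  Cohder.RDPlusAcyc.isIso_unit_app G K (fun m i hi => h m i hi)

/-- The chain map `G(Z^n K) ⟶ R^nG(K)`. -/
def wP [PreservesFiniteLimits G] (D : Data C) (n : ℕ) :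
    ZNP D n ⋙ G.mapCochainComplexPlus ⟶ (G.rightDerived n).mapCochainComplexPlus where
  app K := ObjectProperty.homMk
    ((NatTrans.mapHomologicalComplex G.rightDerivedZeroIsoSelf.inv (ComplexShape.up ℤ)).app
      ((ZN D n).obj K.obj) ≫ (wN D G n).app K.obj)
  naturality K L φ := by
    ext1
    have h1 := (NatTrans.mapHomologicalComplex G.rightDerivedZeroIsoSelf.inv (ComplexShape.up ℤ)).naturality
      ((ZN D n).map φ.hom)
    have h2 := (wN D G n).naturality φ.hom
    exact (Category.assoc _ _ _).symm.trans ((congrArg (· ≫ _) h1).trans ((Category.assoc _ _ _).trans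
      ((congrArg (_ ≫ ·) h2).trans (Category.assoc _ _ _).symm)))

theorem isIso_homologyMap_wP [PreservesFiniteLimits G] (D : Data C) (n : ℕ) (K : CochainComplex.Plus C)
    (p : ℤ) [K.obj.IsStrictlyLE p] :
    IsIso (HomologicalComplex.homologyMap ((wP G D n).app K).hom p) := by
  have h1 := isIso_homologyMap_wN D G n K.obj p
  have h2 := HomologicalComplex.homologyMap_comp
    ((NatTrans.mapHomologicalComplex G.rightDerivedZeroIsoSelf.inv (ComplexShape.up ℤ)).app
      ((ZN D n).obj K.obj)) ((wN D G n).app K.obj) p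
  have h3 : IsIso ((NatTrans.mapHomologicalComplex G.rightDerivedZeroIsoSelf.inv (ComplexShape.up ℤ)).app
      ((ZN D n).obj K.obj)) :=
    (inferInstance : IsIso ((NatIso.mapHomologicalComplex G.rightDerivedZeroIsoSelf.symm (ComplexShape.up ℤ)).hom.app
      ((ZN D n).obj K.obj)))
  have h4 : IsIso (HomologicalComplex.homologyMap
      ((NatTrans.mapHomologicalComplex G.rightDerivedZeroIsoSelf.inv (ComplexShape.up ℤ)).app
      ((ZN D n).obj K.obj)) p) :=
    (inferInstance : IsIso ((HomologicalComplex.homologyFunctor B (.up ℤ) p).map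
      ((NatTrans.mapHomologicalComplex G.rightDerivedZeroIsoSelf.inv (ComplexShape.up ℤ)).app
      ((ZN D n).obj K.obj))))
  have h5 : IsIso (HomologicalComplex.homologyMap
      ((NatTrans.mapHomologicalComplex G.rightDerivedZeroIsoSelf.inv (ComplexShape.up ℤ)).app
      ((ZN D n).obj K.obj)) p ≫ HomologicalComplex.homologyMap ((wN D G n).app K.obj) p) := IsIso.comp_isIso
  rw [← h2] at h5
  exact h5

omit [EnoughInjectives C] in
theorem isIso_homology_Q_map {K L : CochainComplex.Plus C} (f : K ⟶ L) (p : ℤ)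
    (h : IsIso (HomologicalComplex.homologyMap f.hom p)) :
    IsIso ((DerivedCategory.Plus.homologyFunctor C p).map (DerivedCategory.Plus.Q.map f)) := by
  have h1 : IsIso ((HomologicalComplex.homologyFunctor C (.up ℤ) p).map f.hom) := h
  have h2 : IsIso ((DerivedCategory.Q ⋙ DerivedCategory.homologyFunctor C p).map f.hom) :=
    (NatIso.isIso_map_iff (DerivedCategory.homologyFunctorFactors C p) f.hom).2 h1
  exact (NatIso.isIso_map_iff (Functor.isoWhiskerRight (QPι (C := C)) (DerivedCategory.homologyFunctor C p)) f).2 h2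

/-- The natural transformation `RG(K[N]) ⟶ R^NG(K)`. -/
def etaN [PreservesFiniteLimits G] (D : Data C) (N : ℕ) {E : Type u₁} [Category.{v₁} E]
    (𝒦 : E ⥤ CochainComplex.Plus C) (h : ∀ c, Van G N (𝒦.obj c).obj) :
    𝒦 ⋙ DerivedCategory.Plus.Q ⋙ shiftFunctor (DerivedCategory.Plus C) (N : ℤ) ⋙ G.rightDerivedFunctorPlus ⟶
      𝒦 ⋙ (G.rightDerived N).mapCochainComplexPlus ⋙ DerivedCategory.Plus.Q where
  app c := G.rightDerivedFunctorPlus.map ((sNP D N).inv.app (𝒦.obj c)) ≫
    (haveI := isIso_unitC G ((ZNP D N).obj (𝒦.obj c)) (van_ZN D G (h c))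
     inv ((unitC G).app ((ZNP D N).obj (𝒦.obj c)))) ≫ DerivedCategory.Plus.Q.map ((wP G D N).app (𝒦.obj c))
  naturality c c' f := by
    have i1 := isIso_unitC G ((ZNP D N).obj (𝒦.obj c)) (van_ZN D G (h c))
    have i2 := isIso_unitC G ((ZNP D N).obj (𝒦.obj c')) (van_ZN D G (h c'))
    have h1 : G.rightDerivedFunctorPlus.map ((DerivedCategory.Plus.Q.map (𝒦.map f))⟦(N : ℤ)⟧') ≫
        G.rightDerivedFunctorPlus.map ((sNP D N).inv.app (𝒦.obj c')) =
        G.rightDerivedFunctorPlus.map ((sNP D N).inv.app (𝒦.obj c)) ≫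
        G.rightDerivedFunctorPlus.map (DerivedCategory.Plus.Q.map ((ZNP D N).map (𝒦.map f))) := by
      rw [← Functor.map_comp, ← Functor.map_comp]
      congr 1
      exact (sNP D N).inv.naturality (𝒦.map f)
    have h2 : DerivedCategory.Plus.Q.map (G.mapCochainComplexPlus.map ((ZNP D N).map (𝒦.map f))) ≫
        (unitC G).app ((ZNP D N).obj (𝒦.obj c')) = (unitC G).app ((ZNP D N).obj (𝒦.obj c)) ≫
        G.rightDerivedFunctorPlus.map (DerivedCategory.Plus.Q.map ((ZNP D N).map (𝒦.map f))) :=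
      (unitC G).naturality ((ZNP D N).map (𝒦.map f))
    have h2' : G.rightDerivedFunctorPlus.map (DerivedCategory.Plus.Q.map ((ZNP D N).map (𝒦.map f))) ≫
        inv ((unitC G).app ((ZNP D N).obj (𝒦.obj c'))) = inv ((unitC G).app ((ZNP D N).obj (𝒦.obj c))) ≫
        DerivedCategory.Plus.Q.map (G.mapCochainComplexPlus.map ((ZNP D N).map (𝒦.map f))) := by
      rw [IsIso.comp_inv_eq, Category.assoc, h2, IsIso.inv_hom_id_assoc]
    have h3 : DerivedCategory.Plus.Q.map (G.mapCochainComplexPlus.map ((ZNP D N).map (𝒦.map f))) ≫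
        DerivedCategory.Plus.Q.map ((wP G D N).app (𝒦.obj c')) =
        DerivedCategory.Plus.Q.map ((wP G D N).app (𝒦.obj c)) ≫
        DerivedCategory.Plus.Q.map ((G.rightDerived N).mapCochainComplexPlus.map (𝒦.map f)) := by
      rw [← Functor.map_comp, ← Functor.map_comp]
      congr 1
      exact (wP G D N).naturality (𝒦.map f)
    dsimp only [Functor.comp_map, Functor.comp_obj]
    rw [reassoc_of% h1, reassoc_of% h2', h3]
    simp only [Category.assoc]

theorem isIso_homology_etaN [PreservesFiniteLimits G] (D : Data C) (N : ℕ) {E : Type u₁} [Category.{v₁} E]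
    (𝒦 : E ⥤ CochainComplex.Plus C) (h : ∀ c, Van G N (𝒦.obj c).obj) (c : E) (p : ℤ)
    [(𝒦.obj c).obj.IsStrictlyLE p] :
    IsIso ((DerivedCategory.Plus.homologyFunctor B p).map ((etaN G D N 𝒦 h).app c)) := by
  have h1 := isIso_homologyMap_wP G D N (𝒦.obj c) p
  have h2 := isIso_homology_Q_map _ p h1
  have i1 := isIso_unitC G ((ZNP D N).obj (𝒦.obj c)) (van_ZN D G (h c))
  dsimp only [etaN]
  rw [Functor.map_comp, Functor.map_comp]
  infer_instance

end Unit

end Groth.Agent.Etdl.H860.Rho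

end
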