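import Groth.Agent.Etdl.H860.WayOut
import Groth.Agent.Etdl.H860.Rho
import Mathlib.Algebra.Homology.DerivedCategory.FullyFaithful

/-!
# Complexes concentrated in one degree and `D^+`
-/

set_option autoImplicit false
set_option linter.unusedSectionVars false

universe w w' v v' u u'

open CategoryTheory CategoryTheory.Limits

noncomputable section

namespace Groth.Agent.Etdl.H860.Single

open Groth.Agent.Etrest Rho WayOut

section Cx

variable {A : Type u} [Category.{v} A] [Abelian A]

/-- Chain maps between complexes concentrated in degree `n`. -/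
theorem bijective_f {E L : CochainComplex A ℤ} (n : ℤ) (hE : ∀ i, i ≠ n → IsZero (E.X i))
    (hL : ∀ i, i ≠ n → IsZero (L.X i)) : Function.Bijective (fun f : E ⟶ L => f.f n) := by
  constructor
  · intro f g hfg
    ext i
    by_cases hi : i = n
    · subst hi; exact hfg
    · exact (hE i hi).eq_of_src _ _
  · intro g
    refine ⟨{ f := fun i => if h : i = n then eqToHom (by rw [h]) ≫ g ≫ eqToHom (by rw [h]) else 0
              comm' := fun i j hij => ?_ }, by simp⟩
    have hij' : i + 1 = j := hij
    by_cases hi : i = n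
    · exact (hL j (by lia)).eq_of_tgt _ _
    · exact (hE i hi).eq_of_src _ _

/-- Homology of complexes concentrated in degree `n`. -/
theorem bijective_homologyMap {E L : CochainComplex A ℤ} (n : ℤ) (hE : ∀ i, i ≠ n → IsZero (E.X i))
    (hL : ∀ i, i ≠ n → IsZero (L.X i)) :
    Function.Bijective (fun f : E ⟶ L => HomologicalComplex.homologyMap f n) := by
  have iE := E.isIso_iCycles n (n + 1) (by simp) ((hE (n + 1) (by lia)).eq_of_tgt _ _)
  have iL := L.isIso_iCycles n (n + 1) (by simp) ((hL (n + 1) (by lia)).eq_of_tgt _ _)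
  have pE := E.isIso_homologyπ (n - 1) n (by simp) ((hE (n - 1) (by lia)).eq_of_src _ _)
  have pL := L.isIso_homologyπ (n - 1) n (by simp) ((hL (n - 1) (by lia)).eq_of_src _ _)
  let φ : (E.X n ⟶ L.X n) → (E.homology n ⟶ L.homology n) := fun g =>
    inv (E.homologyπ n) ≫ E.iCycles n ≫ g ≫ inv (L.iCycles n) ≫ L.homologyπ n
  have hφ : Function.Bijective φ := by
    refine ⟨fun g g' h => ?_, fun g => ⟨inv (E.iCycles n) ≫ E.homologyπ n ≫ g ≫ inv (L.homologyπ n) ≫
      L.iCycles n, by simp [φ]⟩⟩
    simpa [φ, cancel_epi, cancel_mono] using h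
  have h : (fun f : E ⟶ L => HomologicalComplex.homologyMap f n) = φ ∘ (fun f : E ⟶ L => f.f n) := by
    funext f
    simp only [φ, Function.comp_apply]
    rw [IsIso.eq_inv_comp, HomologicalComplex.homologyπ_naturality, ← HomologicalComplex.cyclesMap_i_assoc,
      IsIso.hom_inv_id_assoc]
  rw [h]
  exact hφ.comp (bijective_f n hE hL)

variable [HasDerivedCategory.{w} A]

/-- The single complex functor to bounded below complexes. -/
def cs (n : ℤ) : A ⥤ CochainComplex.Plus A :=
  ObjectProperty.lift _ (HomologicalComplex.single A (.up ℤ) n) (fun X => ⟨n, by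
    rw [CochainComplex.isStrictlyGE_iff]
    intro i hi
    exact HomologicalComplex.isZero_single_obj_X (ComplexShape.up ℤ) n X i (by lia)⟩)

instance (n : ℤ) (X : A) : ((cs n).obj X).obj.IsStrictlyGE n := by
  rw [CochainComplex.isStrictlyGE_iff]
  intro i hi
  exact HomologicalComplex.isZero_single_obj_X (ComplexShape.up ℤ) n X i (by lia)

instance (n : ℤ) (X : A) : ((cs n).obj X).obj.IsStrictlyLE n := by
  rw [CochainComplex.isStrictlyLE_iff]
  intro i hi
  exact HomologicalComplex.isZero_single_obj_X (ComplexShape.up ℤ) n X i (by lia)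

theorem isZero_cs (n : ℤ) (X : A) (i : ℤ) (hi : i ≠ n) : IsZero (((cs n).obj X).obj.X i) :=
  HomologicalComplex.isZero_single_obj_X (ComplexShape.up ℤ) n X i hi

/-- Single complexes in `D^+`. -/
def csQ (n : ℤ) : cs n ⋙ DerivedCategory.Plus.Q ≅ DerivedCategory.Plus.singleFunctor A n :=
  Iso.refl _

/-- Morphisms in `D^+` from a single complex to a complex concentrated in the same degree. -/
theorem Q_map_surjective (n : ℤ) (X : A) (L : CochainComplex.Plus A) (hL : ∀ i, i ≠ n → IsZero (L.obj.X i)) :
    Function.Surjective (fun f : (cs n).obj X ⟶ L => DerivedCategory.Plus.Q.map f) := by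
  have h1 : L.obj.IsStrictlyGE n := by
    rw [CochainComplex.isStrictlyGE_iff]
    intro i hi
    exact hL i (by lia)
  have h2 : L.obj.IsStrictlyLE n := by
    rw [CochainComplex.isStrictlyLE_iff]
    intro i hi
    exact hL i (by lia)
  obtain ⟨Y, ⟨e⟩⟩ := CochainComplex.exists_iso_single L.obj n
  let e' : L ≅ (cs n).obj Y := (CochainComplex.Plus.fullyFaithfulι A).preimageIso e
  intro φ
  obtain ⟨g, hg⟩ := (DerivedCategory.singleFunctor A n).map_surjective
    (DerivedCategory.Plus.ι.map (φ ≫ DerivedCategory.Plus.Q.map e'.hom))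
  refine ⟨(cs n).map g ≫ e'.inv, ?_⟩
  have h3 : DerivedCategory.Plus.Q.map ((cs n).map g) = φ ≫ DerivedCategory.Plus.Q.map e'.hom :=
    DerivedCategory.Plus.ι.map_injective hg
  change DerivedCategory.Plus.Q.map ((cs n).map g ≫ e'.inv) = φ
  rw [Functor.map_comp, h3, Category.assoc, ← Functor.map_comp, e'.hom_inv_id, CategoryTheory.Functor.map_id,
    Category.comp_id]

end Cx

end Groth.Agent.Etdl.H860.Single

end
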