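import Groth.Agent.Etdl.H860.Eps
import Groth.Agent.Etdl.H860.Single
import Groth.Agent.Etdl.H860.Detect
import Groth.Agent.Etdl.H423.Amp
import Groth.Agent.Etdl.H441.InjAmp
import Groth.Agent.Sga4h.FunLES

/-!
# Homology of `Rf_!` on shifted objects
-/

set_option autoImplicit false
set_option linter.unusedSectionVars false

universe w w₁ w' v v₁ v' u u₁ u'

open CategoryTheory CategoryTheory.Limits

noncomputable section

namespace Groth.Agent.Etdl.H860.HSg

open Rho RDTri Eps WayOut Single Groth.Agent.Etrest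

variable {A : Type u₁} [Category.{v₁} A] [Abelian A] [HasDerivedCategory.{w₁} A] [EnoughInjectives A]
  {C : Type u} [Category.{v} C] [Abelian C] [HasDerivedCategory.{w} C]
  (j : A ⥤ C) [j.Additive]

/-- Single complexes and additive functors. -/
def csMap (n : ℤ) : cs n ⋙ j.mapCochainComplexPlus ≅ j ⋙ cs n :=
  NatIso.ofComponents (fun X => (CochainComplex.Plus.fullyFaithfulι C).preimageIso
    ((HomologicalComplex.singleMapHomologicalComplex j (.up ℤ) n).app X))
    (fun f => (CochainComplex.Plus.ι C).map_injective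
      ((HomologicalComplex.singleMapHomologicalComplex j (.up ℤ) n).hom.naturality f))

variable [PreservesFiniteLimits j] [PreservesFiniteColimits j]

/-- Exact functors on single objects. -/
def singleExact : DerivedCategory.Plus.singleFunctor A 0 ⋙ j.rightDerivedFunctorPlus ≅
    j ⋙ DerivedCategory.Plus.singleFunctor C 0 :=
  (Functor.isoWhiskerLeft (cs 0) (exactIso j) : cs 0 ⋙ DerivedCategory.Plus.Q ⋙ j.rightDerivedFunctorPlus ≅
    cs 0 ⋙ j.mapCochainComplexPlus ⋙ DerivedCategory.Plus.Q) ≪≫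
    (Functor.isoWhiskerRight (csMap j 0) DerivedCategory.Plus.Q :)

variable [EnoughInjectives C]
  {B : Type u'} [Category.{v'} B] [Abelian B] [HasDerivedCategory.{w'} B]
  (G : C ⥤ B) [G.Additive]

/-- `H^i` of `Rf_!(M)`. -/
def hF0 (i : ℕ) : DerivedCategory.Plus.singleFunctor A 0 ⋙ RF j G ⋙
    DerivedCategory.Plus.homologyFunctor B (i : ℤ) ≅ j ⋙ G.rightDerived i :=
  (Functor.isoWhiskerRight (singleExact j) (G.rightDerivedFunctorPlus ⋙ DerivedCategory.Plus.homologyFunctor B (i : ℤ)) :) ≪≫
    (Functor.isoWhiskerLeft j (Functor.isoWhiskerLeft (DerivedCategory.Plus.singleFunctor C 0)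
      (Functor.isoWhiskerRight (RDer1.RGIso G) (DerivedCategory.Plus.homologyFunctor B (i : ℤ))) ≪≫
        RDer1.hSingleIso G i) :)

/-- Homology and shifts on `D^+`. -/
def hShift (k n m : ℤ) (h : k + n = m) : shiftFunctor (DerivedCategory.Plus B) k ⋙
    DerivedCategory.Plus.homologyFunctor B n ≅ DerivedCategory.Plus.homologyFunctor B m :=
  (DerivedCategory.Plus.homologyFunctor B 0).shiftIso k n m h

/-- `H^n` of `Rf_!(M[k])`, `n + k = i`. -/
def hF (k n m : ℤ) (h : k + n = m) :
    shiftFunctor (DerivedCategory.Plus A) k ⋙ RF j G ⋙ DerivedCategory.Plus.homologyFunctor B n ≅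
      RF j G ⋙ DerivedCategory.Plus.homologyFunctor B m :=
  (Functor.isoWhiskerRight ((RF j G).commShiftIso k) (DerivedCategory.Plus.homologyFunctor B n) :) ≪≫
    (Functor.isoWhiskerLeft (RF j G) (hShift k n m h) :)

/-- Effaceability at the level of `H^n(Rf_!(M[k]))`. -/
theorem homology_map_eq_zero {M' M : A} (p : M' ⟶ M) (i : ℕ) (hp : (G.rightDerived i).map (j.map p) = 0)
    (k n : ℤ) (h : k + n = i) : (DerivedCategory.Plus.homologyFunctor B n).map ((RF j G).map
      (((DerivedCategory.Plus.singleFunctor A 0).map p)⟦k⟧')) = 0 := by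
  have h1 := (hF j G k n i h).hom.naturality ((DerivedCategory.Plus.singleFunctor A 0).map p)
  have h2 := (hF0 j G i).hom.naturality p
  have h3 : (DerivedCategory.Plus.homologyFunctor B (i : ℤ)).map ((RF j G).map
      ((DerivedCategory.Plus.singleFunctor A 0).map p)) = 0 := by
    rw [← cancel_mono ((hF0 j G i).hom.app M), zero_comp]
    refine h2.trans ?_
    refine (congrArg (_ ≫ ·) hp).trans comp_zero
  rw [← cancel_mono ((hF j G k n i h).hom.app _), zero_comp]
  refine h1.trans ?_
  refine (congrArg (_ ≫ ·) h3).trans comp_zero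

theorem isGE_RF (K : DerivedCategory.Plus A) (n : ℤ) [K.IsGE n] : ((RF j G).obj K).IsGE n := by
  have := Etdl.H441.InjAmp.isGE_rightDerivedFunctorPlus_obj j K n
  exact Etdl.H441.InjAmp.isGE_rightDerivedFunctorPlus_obj G (j.rightDerivedFunctorPlus.obj K) n

variable (N : ℕ) (hN : ∀ (M : A) (i : ℕ), N < i → IsZero ((G.rightDerived i).obj (j.obj M)))

include hN in
theorem isLE_RF (K : DerivedCategory.Plus A) (b : ℤ) (hK : K.IsLE b) : ((RF j G).obj K).IsLE (b + N) :=
  Etdl.H423.Amp.isLE_comp j G (fun X i hi => by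
    obtain ⟨n, rfl⟩ : ∃ n, i = n + 1 := ⟨i - 1, by lia⟩
    exact Groth.Agent.Sga4h.FunLES.isZero_rightDerived_of_exact _ _ n) N hN K b hK

end Groth.Agent.Etdl.H860.HSg

end
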