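import Groth.Agent.Cohder.FourLemma
import Groth.Agent.Etrest.RDer1

/-!
# Way-out lemma on `D^+` for natural transformations of homological functors

A natural transformation `τ : 𝓗 ⟶ 𝓗'` of homological functors on `D^+(B)` which is an isomorphism on objects `≥ b`
and on all `J[-n]`, `J` injective, is an isomorphism.
-/

set_option autoImplicit false
set_option linter.unusedSectionVars false

universe w v v' u u'

open CategoryTheory CategoryTheory.Limits Pretriangulated

noncomputable section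

namespace Groth.Agent.Etdl.H860.WayOut

open Groth.Agent.Etrest Cohder.FourLemma

section Tri

variable {T : Type u} [Category.{v} T] [HasZeroObject T] [HasShift T ℤ] [Preadditive T]
  [∀ n : ℤ, (shiftFunctor T n).Additive] [Pretriangulated T]
  {𝒜 : Type u'} [Category.{v'} 𝒜] [Abelian 𝒜]
  {𝓗 𝓗' : T ⥤ 𝒜} [𝓗.IsHomological] [𝓗'.IsHomological] (τ : 𝓗 ⟶ 𝓗')

theorem mono_τ (Δ : Triangle T) (hΔ : Δ ∈ distTriang T)
    (h1 : Epi (τ.app (Δ.obj₃⟦(-1 : ℤ)⟧))) (h2 : Mono (τ.app Δ.obj₁)) (h3 : Mono (τ.app Δ.obj₃)) :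
    Mono (τ.app Δ.obj₂) :=
  four_mono (𝓗.map_distinguished_exact Δ hΔ)
    (𝓗'.map_distinguished_exact Δ.invRotate (inv_rot_of_distTriang Δ hΔ))
    (w₁₂ := ((shortComplexOfDistTriangle Δ.invRotate (inv_rot_of_distTriang Δ hΔ)).map 𝓗).zero)
    (τ.app (Δ.obj₃⟦(-1 : ℤ)⟧)) (τ.app Δ.obj₁) (τ.app Δ.obj₂) (τ.app Δ.obj₃)
    (τ.naturality Δ.invRotate.mor₁) (τ.naturality Δ.mor₁) (τ.naturality Δ.mor₂) h1 h2 h3

theorem epi_τ (Δ : Triangle T) (hΔ : Δ ∈ distTriang T)
    (h1 : Epi (τ.app Δ.obj₁)) (h3 : Epi (τ.app Δ.obj₃)) (h4 : Mono (τ.app (Δ.obj₁⟦(1 : ℤ)⟧))) :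
    Epi (τ.app Δ.obj₂) :=
  four_epi (𝓗.map_distinguished_exact Δ.rotate (rot_of_distTriang Δ hΔ))
    (𝓗'.map_distinguished_exact Δ hΔ)
    (v₂₃ := ((shortComplexOfDistTriangle Δ.rotate (rot_of_distTriang Δ hΔ)).map 𝓗').zero)
    (τ.app Δ.obj₁) (τ.app Δ.obj₂) (τ.app Δ.obj₃) (τ.app (Δ.obj₁⟦(1 : ℤ)⟧))
    (τ.naturality Δ.mor₁) (τ.naturality Δ.mor₂) (τ.naturality Δ.mor₃) h1 h3 h4

theorem mono_of_iso {X Y : T} (e : X ≅ Y) (h : Mono (τ.app X)) : Mono (τ.app Y) := by
  have h1 : τ.app Y = 𝓗.map e.inv ≫ τ.app X ≫ 𝓗'.map e.hom := by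
    rw [τ.naturality_assoc, ← Functor.map_comp, e.inv_hom_id, CategoryTheory.Functor.map_id, Category.comp_id]
  rw [h1]
  infer_instance

theorem epi_of_iso {X Y : T} (e : X ≅ Y) (h : Epi (τ.app X)) : Epi (τ.app Y) := by
  have h1 : τ.app Y = 𝓗.map e.inv ≫ τ.app X ≫ 𝓗'.map e.hom := by
    rw [τ.naturality_assoc, ← Functor.map_comp, e.inv_hom_id, CategoryTheory.Functor.map_id, Category.comp_id]
  rw [h1]
  infer_instance

end Tri

section DPlus

variable {B : Type u} [Category.{v} B] [Abelian B] [HasDerivedCategory.{w} B]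
  {𝒜 : Type u'} [Category.{v'} 𝒜] [Abelian 𝒜]
  {𝓗 𝓗' : DerivedCategory.Plus B ⥤ 𝒜} [𝓗.IsHomological] [𝓗'.IsHomological] (τ : 𝓗 ⟶ 𝓗')

/-- The object `M[k]` of `D^+`. -/
abbrev sg (k : ℤ) (M : B) : DerivedCategory.Plus B := ((DerivedCategory.Plus.singleFunctor B 0).obj M)⟦k⟧

/-- `M[k]` as a single object in degree `-k`. -/
def sgIso (k n : ℤ) (h : k + n = 0) (M : B) : sg k M ≅ (DerivedCategory.Plus.singleFunctor B n).obj M :=
  ((DerivedCategory.Plus.singleFunctors B).shiftIso k n 0 h).app M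

/-- `M[k][l] = M[k+l]`. -/
def sgShift (k l m : ℤ) (h : k + l = m) (M : B) : (sg k M)⟦l⟧ ≅ sg m M :=
  ((shiftFunctorAdd' (DerivedCategory.Plus B) k l m h).app _).symm

instance isGE_sg (k : ℤ) (M : B) : (sg k M).IsGE (-k) :=
  DerivedCategory.Plus.TStructure.t.isGE_shift _ 0 k (-k) (by lia)

instance isLE_sg (k : ℤ) (M : B) : (sg k M).IsLE (-k) :=
  DerivedCategory.Plus.TStructure.t.isLE_shift _ 0 k (-k) (by lia)

/-- An object concentrated in one degree is single. -/
theorem exists_iso_sg (K : DerivedCategory.Plus B) (a : ℤ) (h1 : K.IsGE a) (h2 : K.IsLE a) :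
    ∃ M : B, Nonempty (K ≅ sg (-a) M) := by
  have h1' : (DerivedCategory.Plus.ι.obj K).IsGE a := inferInstance
  have h2' : (DerivedCategory.Plus.ι.obj K).IsLE a := inferInstance
  obtain ⟨M, ⟨e⟩⟩ := DerivedCategory.exists_iso_singleFunctor_obj_of_isGE_of_isLE (DerivedCategory.Plus.ι.obj K) a
  exact ⟨M, ⟨DerivedCategory.Plus.ι.preimageIso (Y := (DerivedCategory.Plus.singleFunctor B a).obj M) e ≪≫ (sgIso (-a) a (by lia) M).symm⟩⟩

variable [EnoughInjectives B]

/-- The triangle of a short exact sequence, shifted. -/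
abbrev sgTri (k : ℤ) {S : ShortComplex B} (hS : S.ShortExact) : Triangle (DerivedCategory.Plus B) :=
  (CategoryTheory.shiftFunctor (Triangle (DerivedCategory.Plus B)) k).obj (RDer1.plusTriangle hS)

theorem sgTri_distinguished (k : ℤ) {S : ShortComplex B} (hS : S.ShortExact) :
    sgTri k hS ∈ distTriang (DerivedCategory.Plus B) :=
  Triangle.shift_distinguished _ (RDer1.plusTriangle_distinguished hS) k

theorem isIso_of_mono_epi {X : DerivedCategory.Plus B} (h1 : Mono (τ.app X)) (h2 : Epi (τ.app X)) :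
    IsIso (τ.app X) := isIso_of_mono_of_epi _

/-- First step: single objects. -/
theorem isIso_single (b : ℤ) (hb : ∀ K : DerivedCategory.Plus B, K.IsGE b → IsIso (τ.app K))
    (hJ : ∀ (J : B), Injective J → ∀ k : ℤ, IsIso (τ.app (sg k J))) (k : ℤ) (M : B) :
    IsIso (τ.app (sg k M)) := by
  suffices H : ∀ (m : ℕ) (k : ℤ) (_ : k ≤ m - b) (M : B), IsIso (τ.app (sg k M)) by
    exact H (k + b).toNat k (by lia) M
  intro m
  induction m with
  | zero =>
    intro k hk M
    exact hb _ (DerivedCategory.Plus.TStructure.t.isGE_of_ge _ b (-k) (by push_cast at hk; lia))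
  | succ m ih =>
    intro k hk M
    have hmono : ∀ M : B, Mono (τ.app (sg k M)) := by
      intro M
      let I := Injective.under M
      let S : ShortComplex B := ShortComplex.mk (Injective.ι M) (cokernel.π (Injective.ι M)) (cokernel.condition _)
      have hS : S.ShortExact :=
        { exact := ShortComplex.exact_of_g_is_cokernel _ (cokernelIsCokernel _)
          mono_f := inferInstanceAs (Mono (Injective.ι M))
          epi_g := inferInstanceAs (Epi (cokernel.π (Injective.ι M))) }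
      have hΔ := inv_rot_of_distTriang _ (sgTri_distinguished k hS)
      refine mono_τ τ _ hΔ ?_ ?_ ?_
      · have := hJ I inferInstance (k - 1)
        exact epi_of_iso τ (sgShift k (-1) (k - 1) (by lia) I).symm inferInstance
      · have := ih (k - 1) (by push_cast at hk; lia) S.X₃
        exact mono_of_iso τ (sgShift k (-1) (k - 1) (by lia) S.X₃).symm inferInstance
      · have := hJ I inferInstance k
        exact (inferInstance : Mono (τ.app (sg k I)))
    refine isIso_of_mono_epi τ (hmono M) ?_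
    let I := Injective.under M
    let S : ShortComplex B := ShortComplex.mk (Injective.ι M) (cokernel.π (Injective.ι M)) (cokernel.condition _)
    have hS : S.ShortExact :=
      { exact := ShortComplex.exact_of_g_is_cokernel _ (cokernelIsCokernel _)
        mono_f := inferInstanceAs (Mono (Injective.ι M))
        epi_g := inferInstanceAs (Epi (cokernel.π (Injective.ι M))) }
    have hΔ := inv_rot_of_distTriang _ (sgTri_distinguished k hS)
    refine epi_τ τ _ hΔ ?_ ?_ ?_
    · have := ih (k - 1) (by push_cast at hk; lia) S.X₃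
      exact epi_of_iso τ (sgShift k (-1) (k - 1) (by lia) S.X₃).symm inferInstance
    · have := hJ I inferInstance k
      exact (inferInstance : Epi (τ.app (sg k I)))
    · exact mono_of_iso τ ((sgShift (k - 1) 1 k (by lia) S.X₃).symm ≪≫
        (shiftFunctor (DerivedCategory.Plus B) (1 : ℤ)).mapIso
          (sgShift k (-1) (k - 1) (by lia) S.X₃).symm) (hmono S.X₃)

/-- The way-out lemma. -/
theorem isIso_app (b : ℤ) (hb : ∀ K : DerivedCategory.Plus B, K.IsGE b → IsIso (τ.app K))
    (hJ : ∀ (J : B), Injective J → ∀ k : ℤ, IsIso (τ.app (sg k J))) (K : DerivedCategory.Plus B) :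
    IsIso (τ.app K) := by
  have hs := isIso_single τ b hb hJ
  suffices H : ∀ (m : ℕ) (a : ℤ) (_ : b - m ≤ a) (K : DerivedCategory.Plus B) (_ : K.IsGE a), IsIso (τ.app K) by
    obtain ⟨n, hn⟩ := K.property
    have hK : K.IsGE n := ⟨hn.1⟩
    exact H (b - n).toNat n (by lia) K hK
  intro m
  induction m with
  | zero =>
    intro a ha K hK
    exact hb K (DerivedCategory.Plus.TStructure.t.isGE_of_ge _ b a (by push_cast at ha; lia))
  | succ m ih =>
    intro a ha K hK
    have hΔ := DerivedCategory.Plus.TStructure.t.triangleLEGE_distinguished a (a + 1) rfl K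
    obtain ⟨M, ⟨e⟩⟩ := exists_iso_sg ((DerivedCategory.Plus.TStructure.t.truncLE a).obj K) a
      inferInstance inferInstance
    have h1 := ih (a + 1) (by push_cast at ha; lia)
      ((DerivedCategory.Plus.TStructure.t.truncGE (a + 1)).obj K) inferInstance
    have h2 := ih (a + 2) (by push_cast at ha; lia)
      (((DerivedCategory.Plus.TStructure.t.truncGE (a + 1)).obj K)⟦(-1 : ℤ)⟧)
      (DerivedCategory.Plus.TStructure.t.isGE_shift _ (a + 1) (-1) (a + 2) (by lia))
    have h3 := hs (-a) M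
    have h4 := hs (-a + 1) M
    refine isIso_of_mono_epi τ ?_ ?_
    · refine mono_τ τ _ hΔ ?_ ?_ ?_
      · exact (inferInstance : Epi (τ.app (((DerivedCategory.Plus.TStructure.t.truncGE (a + 1)).obj K)⟦(-1 : ℤ)⟧)))
      · exact mono_of_iso τ e.symm inferInstance
      · exact (inferInstance : Mono (τ.app ((DerivedCategory.Plus.TStructure.t.truncGE (a + 1)).obj K)))
    · refine epi_τ τ _ hΔ ?_ ?_ ?_
      · exact epi_of_iso τ e.symm inferInstance
      · exact (inferInstance : Epi (τ.app ((DerivedCategory.Plus.TStructure.t.truncGE (a + 1)).obj K)))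
      · exact mono_of_iso τ ((sgShift (-a) 1 (-a + 1) (by lia) M).symm ≪≫
          (shiftFunctor (DerivedCategory.Plus B) (1 : ℤ)).mapIso e.symm) inferInstance

end DPlus

end Groth.Agent.Etdl.H860.WayOut

end
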