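import Groth.Agent.Etdl.H860.FunInj
import Mathlib.Algebra.Homology.HomologicalComplexAbelian
import Mathlib.Algebra.Homology.Embedding.CochainComplex
import Mathlib.Algebra.Homology.DerivedCategory.ShortExact
import Mathlib.CategoryTheory.Abelian.Refinements

/-!
# A functorial embedding of complexes into contractible complexes of injectives

For `K` a cochain complex, `IC K` has `(IC K)^i = J(K^i) ⊞ J(K^{i+1})`, `d(a,b) = (b,0)`, `emb : K ⟶ IC K` is
`x ↦ (ι x, ι dx)`, and `(Z D).obj K` is its cokernel. All is functorial in `K` (not additive).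
-/

set_option autoImplicit false

universe w v u

open CategoryTheory CategoryTheory.Limits

noncomputable section

namespace Groth.Agent.Etdl.H860.ZFun

open FunInj

variable {C : Type u} [Category.{v} C] [Abelian C] (D : Data C)

attribute [instance] Data.mono Data.inj

/-- The contractible complex. -/
def IC (K : CochainComplex C ℤ) : CochainComplex C ℤ :=
  CochainComplex.of (fun i => D.J.obj (K.X i) ⊞ D.J.obj (K.X (i + 1)))
    (fun i => (biprod.snd : D.J.obj (K.X i) ⊞ D.J.obj (K.X (i + 1)) ⟶ D.J.obj (K.X (i + 1))) ≫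
      (biprod.inl : _ ⟶ D.J.obj (K.X (i + 1)) ⊞ D.J.obj (K.X (i + 1 + 1)))) (fun i => by simp)

section

variable (K : CochainComplex C ℤ) (i : ℤ)

/-- first projection -/
def fst : (IC D K).X i ⟶ D.J.obj (K.X i) := biprod.fst
/-- second projection -/
def snd : (IC D K).X i ⟶ D.J.obj (K.X (i + 1)) := biprod.snd
/-- first inclusion -/
def inl : D.J.obj (K.X i) ⟶ (IC D K).X i := biprod.inl
/-- second inclusion -/
def inr : D.J.obj (K.X (i + 1)) ⟶ (IC D K).X i := biprod.inr

@[reassoc (attr := simp)] theorem inl_fst : inl D K i ≫ fst D K i = 𝟙 _ := biprod.inl_fst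
@[reassoc (attr := simp)] theorem inl_snd : inl D K i ≫ snd D K i = 0 := biprod.inl_snd
@[reassoc (attr := simp)] theorem inr_fst : inr D K i ≫ fst D K i = 0 := biprod.inr_fst
@[reassoc (attr := simp)] theorem inr_snd : inr D K i ≫ snd D K i = 𝟙 _ := biprod.inr_snd

variable {i} in
theorem hom_ext_to {A : C} {f g : A ⟶ (IC D K).X i} (h1 : f ≫ fst D K i = g ≫ fst D K i)
    (h2 : f ≫ snd D K i = g ≫ snd D K i) : f = g :=
  biprod.hom_ext _ _ h1 h2

variable {i} in
theorem hom_ext_from {A : C} {f g : (IC D K).X i ⟶ A} (h1 : inl D K i ≫ f = inl D K i ≫ g)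
    (h2 : inr D K i ≫ f = inr D K i ≫ g) : f = g :=
  biprod.hom_ext' _ _ h1 h2

@[simp, reassoc]
theorem IC_d : (IC D K).d i (i + 1) = snd D K i ≫ inl D K (i + 1) :=
  CochainComplex.of_d (fun i => D.J.obj (K.X i) ⊞ D.J.obj (K.X (i + 1)))
    (fun i => (biprod.snd : D.J.obj (K.X i) ⊞ D.J.obj (K.X (i + 1)) ⟶ D.J.obj (K.X (i + 1))) ≫
      (biprod.inl : _ ⟶ D.J.obj (K.X (i + 1)) ⊞ D.J.obj (K.X (i + 1 + 1)))) i

instance injective_IC : Injective ((IC D K).X i) :=
  inferInstanceAs (Injective (D.J.obj (K.X i) ⊞ D.J.obj (K.X (i + 1))))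

theorem isZero_IC (h : IsZero (K.X i)) (h' : IsZero (K.X (i + 1))) :
    IsZero ((IC D K).X i) := by
  rw [IsZero.iff_id_eq_zero]
  exact hom_ext_to D K ((D.zero _ h).eq_of_tgt _ _) ((D.zero _ h').eq_of_tgt _ _)

/-- The embedding in degree `i`. -/
def embf : K.X i ⟶ (IC D K).X i := D.ι (K.X i) ≫ inl D K i + K.d i (i + 1) ≫ D.ι (K.X (i + 1)) ≫ inr D K i

@[reassoc (attr := simp)] theorem embf_fst : embf D K i ≫ fst D K i = D.ι (K.X i) := by simp [embf]
@[reassoc (attr := simp)] theorem embf_snd :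
    embf D K i ≫ snd D K i = K.d i (i + 1) ≫ D.ι (K.X (i + 1)) := by simp [embf]

end

/-- functoriality in degree `i` -/
def mapf {K L : CochainComplex C ℤ} (φ : K ⟶ L) (i : ℤ) : (IC D K).X i ⟶ (IC D L).X i :=
  fst D K i ≫ D.J.map (φ.f i) ≫ inl D L i + snd D K i ≫ D.J.map (φ.f (i + 1)) ≫ inr D L i

@[reassoc (attr := simp)] theorem mapf_fst {K L : CochainComplex C ℤ} (φ : K ⟶ L) (i : ℤ) :
    mapf D φ i ≫ fst D L i = fst D K i ≫ D.J.map (φ.f i) := by simp [mapf]
@[reassoc (attr := simp)] theorem mapf_snd {K L : CochainComplex C ℤ} (φ : K ⟶ L) (i : ℤ) :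
    mapf D φ i ≫ snd D L i = snd D K i ≫ D.J.map (φ.f (i + 1)) := by simp [mapf]

/-- The functor `IC`. -/
@[simps]
def ICF : CochainComplex C ℤ ⥤ CochainComplex C ℤ where
  obj K := IC D K
  map {K L} φ :=
    { f := mapf D φ
      comm' := fun i j hij => by
        obtain rfl : i + 1 = j := hij
        apply hom_ext_to <;> simp }
  map_id K := by
    ext i
    apply hom_ext_to <;> simp
  map_comp φ ψ := by
    ext i
    apply hom_ext_to <;> simp

/-- The embedding. -/
@[simps]
def emb (K : CochainComplex C ℤ) : K ⟶ IC D K where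
  f := embf D K
  comm' i j hij := by
    obtain rfl : i + 1 = j := hij
    apply hom_ext_to <;> simp

theorem emb_naturality {K L : CochainComplex C ℤ} (φ : K ⟶ L) : φ ≫ emb D L = emb D K ≫ (ICF D).map φ := by
  ext i
  change φ.f i ≫ embf D L i = embf D K i ≫ mapf D φ i
  apply hom_ext_to
  · simpa using D.naturality (φ.f i)
  · simpa using K.d i (i + 1) ≫= D.naturality (φ.f (i + 1))

instance (K : CochainComplex C ℤ) (i : ℤ) : Mono ((emb D K).f i) := by
  have h : (emb D K).f i ≫ fst D K i = D.ι (K.X i) := embf_fst D K i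
  have : Mono ((emb D K).f i ≫ fst D K i) := by rw [h]; infer_instance
  exact mono_of_mono _ (fst D K i)

instance (K : CochainComplex C ℤ) : Mono (emb D K) := HomologicalComplex.mono_of_mono_f _ inferInstance

/-- The short exact sequence of complexes. -/
@[simps]
def ses (K : CochainComplex C ℤ) : ShortComplex (CochainComplex C ℤ) where
  X₁ := K
  X₂ := IC D K
  X₃ := cokernel (emb D K)
  f := emb D K
  g := cokernel.π _
  zero := cokernel.condition _

theorem ses_shortExact (K : CochainComplex C ℤ) : (ses D K).ShortExact where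
  mono_f := inferInstanceAs (Mono (emb D K))
  epi_g := inferInstanceAs (Epi (cokernel.π (emb D K)))
  exact := ShortComplex.exact_of_g_is_cokernel _ (cokernelIsCokernel (emb D K))

/-- functoriality of the short exact sequence -/
def sesMap {K L : CochainComplex C ℤ} (φ : K ⟶ L) : ses D K ⟶ ses D L where
  τ₁ := φ
  τ₂ := (ICF D).map φ
  τ₃ := cokernel.map _ _ φ ((ICF D).map φ) (emb_naturality D φ).symm
  comm₁₂ := emb_naturality D φ
  comm₂₃ := (cokernel.π_desc (emb D K) _ _).symm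

theorem sesMap_ext {K L : CochainComplex C ℤ} {φ ψ : ses D K ⟶ ses D L} (h1 : φ.τ₁ = ψ.τ₁)
    (h2 : φ.τ₂ = ψ.τ₂) : φ = ψ := by
  ext1
  · exact h1
  · exact h2
  · have := (ses_shortExact D K).epi_g
    rw [← cancel_epi (ses D K).g, ← φ.comm₂₃, ← ψ.comm₂₃, h2]

/-- functoriality -/
@[simps]
def sesF : CochainComplex C ℤ ⥤ ShortComplex (CochainComplex C ℤ) where
  obj K := ses D K
  map φ := sesMap D φ
  map_id K := sesMap_ext D rfl ((ICF D).map_id K)
  map_comp φ ψ := sesMap_ext D rfl ((ICF D).map_comp φ ψ)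

/-- The functor `Z`. -/
def Z : CochainComplex C ℤ ⥤ CochainComplex C ℤ := sesF D ⋙ ShortComplex.π₃

theorem exactAt_IC (K : CochainComplex C ℤ) (i : ℤ) : (IC D K).ExactAt i := by
  obtain ⟨m, rfl⟩ : ∃ m, i = m + 1 := ⟨i - 1, by lia⟩
  rw [HomologicalComplex.exactAt_iff' _ m (m + 1) (m + 1 + 1) (by simp) (by simp),
    ShortComplex.exact_iff_exact_up_to_refinements]
  intro A (x : A ⟶ (IC D K).X (m + 1)) (hx : x ≫ (IC D K).d (m + 1) (m + 1 + 1) = 0)
  refine ⟨A, 𝟙 _, inferInstance, (x ≫ fst D K (m + 1)) ≫ inr D K m, ?_⟩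
  change 𝟙 A ≫ x = ((x ≫ fst D K (m + 1)) ≫ inr D K m) ≫ (IC D K).d m (m + 1)
  rw [IC_d] at hx ⊢
  have h2 : x ≫ snd D K (m + 1) = 0 := by
    have h3 := hx =≫ fst D K (m + 1 + 1)
    simpa using h3
  apply hom_ext_to
  · simp
  · simpa using h2

theorem acyclic_IC (K : CochainComplex C ℤ) : (IC D K).Acyclic := exactAt_IC D K

theorem isZero_Z (K : CochainComplex C ℤ) (i : ℤ) (h : IsZero (K.X i)) (h' : IsZero (K.X (i + 1))) :
    IsZero (((Z D).obj K).X i) := by
  have h1 : Epi ((ses D K).g.f i) :=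
    ((ses_shortExact D K).map_of_exact (HomologicalComplex.eval C (.up ℤ) i)).epi_g
  exact @IsZero.of_epi _ _ _ _ _ ((ses D K).g.f i) h1 (isZero_IC D K i h h')

theorem isStrictlyGE_Z (K : CochainComplex C ℤ) (a b : ℤ) (hb : b + 1 = a) [K.IsStrictlyGE a] :
    ((Z D).obj K).IsStrictlyGE b := by
  rw [CochainComplex.isStrictlyGE_iff]
  intro i hi
  exact isZero_Z D K i (K.isZero_of_isStrictlyGE a i) (K.isZero_of_isStrictlyGE a (i + 1))

instance isStrictlyLE_Z (K : CochainComplex C ℤ) (b : ℤ) [K.IsStrictlyLE b] :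
    ((Z D).obj K).IsStrictlyLE b := by
  rw [CochainComplex.isStrictlyLE_iff]
  intro i hi
  exact isZero_Z D K i (K.isZero_of_isStrictlyLE b i) (K.isZero_of_isStrictlyLE b (i + 1))

end Groth.Agent.Etdl.H860.ZFun

end
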